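import Cfsg.Agent.H109.Cov.Kill

/-!
# S2499, `PSp_6(q)`: the tensor element `z = h ⊗ j` (helper109)

`h ∈ SL_2(q)` without eigenvectors, `j` regular unipotent in `SO_3(q)`: `z` has order divisible by `p`, a power of `z`
is unipotent with fixed space of dimension 2; a `z`-invariant space of dimension at most 2 is 0 or a totally singular
2-space.
-/

set_option autoImplicit false

namespace Cfsg.Agent.H109.Cov

open Cfsg Cfsg.Geo Module Cfsg.Agent.ClassicalGeometry.SympBasic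
open Cfsg.Agent.H876 (spToGL)
open scoped Matrix MatrixGroups

universe u

section phi

variable {F : Type u} [Field F]

/-- `h ⊗ 1` -/
def phiMat (h : Matrix (Fin 2) (Fin 2) F) : Matrix (Fin 3 ⊕ Fin 3) (Fin 3 ⊕ Fin 3) F :=
  Matrix.fromBlocks (h 0 0 • 1) (h 0 1 • 1) (h 1 0 • 1) (h 1 1 • 1)

theorem phiMat_mul (g h : Matrix (Fin 2) (Fin 2) F) : phiMat (g * h) = phiMat g * phiMat h := by
  unfold phiMat
  rw [Matrix.fromBlocks_multiply]
  simp only [Matrix.smul_mul, Matrix.mul_smul, Matrix.one_mul, smul_smul, ← add_smul, Matrix.mul_apply,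
    Fin.sum_univ_two]
  congr 1 <;> congr 1 <;> ring

theorem phiMat_one : phiMat (1 : Matrix (Fin 2) (Fin 2) F) = 1 := by
  unfold phiMat
  simp [Matrix.one_apply, Matrix.fromBlocks_one]

/-- `1 ⊗ j` -/
def psiMat (j : Matrix (Fin 3) (Fin 3) F) : Matrix (Fin 3 ⊕ Fin 3) (Fin 3 ⊕ Fin 3) F := Matrix.fromBlocks j 0 0 j

theorem phi_psi_comm (h : Matrix (Fin 2) (Fin 2) F) (j : Matrix (Fin 3) (Fin 3) F) :
    phiMat h * psiMat j = psiMat j * phiMat h := by
  unfold phiMat psiMat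
  rw [Matrix.fromBlocks_multiply, Matrix.fromBlocks_multiply]
  simp [Matrix.smul_mul, Matrix.mul_smul]

theorem phi_mem (h : Matrix.SpecialLinearGroup (Fin 2) F) :
    phiMat (h : Matrix (Fin 2) (Fin 2) F) ∈ Matrix.symplecticGroup (Fin 3) F := by
  rw [SymplecticGroup.mem_iff]
  have hd : (h : Matrix (Fin 2) (Fin 2) F) 0 0 * (h : Matrix (Fin 2) (Fin 2) F) 1 1 -
      (h : Matrix (Fin 2) (Fin 2) F) 0 1 * (h : Matrix (Fin 2) (Fin 2) F) 1 0 = 1 := by
    rw [← Matrix.det_fin_two, Matrix.SpecialLinearGroup.det_coe]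
  unfold phiMat Matrix.J
  rw [Matrix.fromBlocks_transpose, Matrix.fromBlocks_multiply, Matrix.fromBlocks_multiply]
  simp only [Matrix.transpose_smul, Matrix.transpose_one, Matrix.smul_mul, Matrix.mul_smul, Matrix.one_mul,
    Matrix.mul_one, Matrix.mul_zero, Matrix.zero_mul, add_zero, zero_add, Matrix.mul_neg, Matrix.neg_mul, smul_neg,
    smul_smul, ← neg_smul, ← add_smul]
  congr 1
  · rw [show ∀ x y : F, x * y + y * -x = 0 from fun x y => by ring, zero_smul]
  · rw [show (h : Matrix (Fin 2) (Fin 2) F) 1 0 * (h : Matrix (Fin 2) (Fin 2) F) 0 1 +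
      (h : Matrix (Fin 2) (Fin 2) F) 1 1 * -(h : Matrix (Fin 2) (Fin 2) F) 0 0 = -1 by linear_combination -hd,
      neg_smul, one_smul]
  · rw [show (h : Matrix (Fin 2) (Fin 2) F) 0 0 * (h : Matrix (Fin 2) (Fin 2) F) 1 1 +
      (h : Matrix (Fin 2) (Fin 2) F) 0 1 * -(h : Matrix (Fin 2) (Fin 2) F) 1 0 = 1 by linear_combination hd, one_smul]
  · rw [show ∀ x y : F, x * y + y * -x = 0 from fun x y => by ring, zero_smul]

/-- `h ↦ h ⊗ 1` -/
def phi : Matrix.SpecialLinearGroup (Fin 2) F →* Matrix.symplecticGroup (Fin 3) F where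
  toFun h := ⟨phiMat (h : Matrix (Fin 2) (Fin 2) F), phi_mem h⟩
  map_one' := Subtype.ext phiMat_one
  map_mul' g h := Subtype.ext (phiMat_mul _ _)

theorem psi_mem {j : Matrix (Fin 3) (Fin 3) F} (hj : j * jᵀ = 1) : psiMat j ∈ Matrix.symplecticGroup (Fin 3) F := by
  rw [SymplecticGroup.mem_iff]
  unfold psiMat Matrix.J
  rw [Matrix.fromBlocks_transpose, Matrix.fromBlocks_multiply, Matrix.fromBlocks_multiply]
  simp [hj]

/-- `1 ⊗ j` in the symplectic group -/
def psi (j : Matrix (Fin 3) (Fin 3) F) (hj : j * jᵀ = 1) : Matrix.symplecticGroup (Fin 3) F := ⟨psiMat j, psi_mem hj⟩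

theorem commute_phi_psi (h : Matrix.SpecialLinearGroup (Fin 2) F) (j : Matrix (Fin 3) (Fin 3) F) (hj : j * jᵀ = 1) :
    Commute (phi h) (psi j hj) := Subtype.ext (phi_psi_comm _ _)

theorem psiMat_pow (j : Matrix (Fin 3) (Fin 3) F) (n : ℕ) : psiMat j ^ n = psiMat (j ^ n) :=
  Matrix.fromBlocks_diagonal_pow _ _ _

/-! ### the unipotent element of `SO_3` -/

/-- `N v = w × v`, `w = (a, b, 1)` -/
def nMat (a b : F) : Matrix (Fin 3) (Fin 3) F := !![0, -1, b; 1, 0, -a; -b, a, 0]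

/-- `j = 1 + N + N² / 2` -/
noncomputable def jMat (a b : F) : Matrix (Fin 3) (Fin 3) F := 1 + nMat a b + (2⁻¹ : F) • (nMat a b * nMat a b)

theorem nMat_transpose (a b : F) : (nMat a b)ᵀ = - nMat a b := by
  unfold nMat
  ext i j
  fin_cases i <;> fin_cases j <;> simp

theorem nMat_sq {a b : F} (h : a ^ 2 + b ^ 2 = -1) :
    nMat a b * nMat a b = !![a * a, a * b, a; b * a, b * b, b; a, b, 1] := by
  unfold nMat
  ext i j
  fin_cases i <;> fin_cases j <;> simp [Matrix.mul_apply, Fin.sum_univ_three] <;>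
    first | ring1 | linear_combination h | linear_combination -h

theorem nMat_cube {a b : F} (h : a ^ 2 + b ^ 2 = -1) : nMat a b * nMat a b * nMat a b = 0 := by
  rw [nMat_sq h]
  unfold nMat
  ext i j
  fin_cases i <;> fin_cases j <;> simp [Matrix.mul_apply, Fin.sum_univ_three] <;> ring

theorem jMat_orth {a b : F} (h : a ^ 2 + b ^ 2 = -1) (h2 : (2 : F) ≠ 0) : jMat a b * (jMat a b)ᵀ = 1 := by
  have h3 := nMat_cube h
  have ht : (jMat a b)ᵀ = 1 - nMat a b + (2⁻¹ : F) • (nMat a b * nMat a b) := by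
    unfold jMat
    rw [Matrix.transpose_add, Matrix.transpose_add, Matrix.transpose_one, Matrix.transpose_smul,
      Matrix.transpose_mul, nMat_transpose, Matrix.neg_mul, Matrix.mul_neg, neg_neg, sub_eq_add_neg]
  rw [ht]
  unfold jMat
  set N := nMat a b with hN
  have h4 : N * (N * N) = 0 := by rw [← Matrix.mul_assoc, h3]
  have h5 : (2⁻¹ : F) + 2⁻¹ = 1 := by rw [← two_mul, mul_inv_cancel₀ h2]
  have h6 : (1 + N + (2⁻¹ : F) • (N * N)) * (1 - N + (2⁻¹ : F) • (N * N)) =
      1 + ((2⁻¹ : F) + 2⁻¹) • (N * N) - N * N := by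
    simp only [Matrix.add_mul, Matrix.mul_add, Matrix.mul_sub, Matrix.one_mul, Matrix.mul_one,
      Matrix.smul_mul, Matrix.mul_smul, Matrix.mul_assoc, h4, Matrix.mul_zero, smul_zero, add_smul]
    abel
  rw [h6, h5, one_smul, add_sub_cancel_right]

theorem jMat_sub_sq {a b : F} (h : a ^ 2 + b ^ 2 = -1) :
    (jMat a b - 1) * (jMat a b - 1) = nMat a b * nMat a b := by
  have h3 := nMat_cube h
  unfold jMat
  set N := nMat a b with hN
  have h4 : N * (N * N) = 0 := by rw [← Matrix.mul_assoc, h3]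
  have h5 : 1 + N + (2⁻¹ : F) • (N * N) - 1 = N + (2⁻¹ : F) • (N * N) := by abel
  rw [h5]
  simp only [Matrix.add_mul, Matrix.mul_add, Matrix.smul_mul, Matrix.mul_smul, smul_smul]
  rw [h3, Matrix.mul_assoc N N (N * N), h4, Matrix.mul_zero]
  simp

theorem jMat_sub_cube {a b : F} (h : a ^ 2 + b ^ 2 = -1) : (jMat a b - 1) ^ 3 = 0 := by
  have h3 := nMat_cube h
  rw [pow_succ, pow_two, jMat_sub_sq h]
  unfold jMat
  set N := nMat a b with hN
  have h4 : N * (N * N) = 0 := by rw [← Matrix.mul_assoc, h3]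
  have h5 : 1 + N + (2⁻¹ : F) • (N * N) - 1 = N + (2⁻¹ : F) • (N * N) := by abel
  rw [h5, Matrix.mul_add, Matrix.mul_smul, h3, Matrix.mul_assoc N N (N * N), h4, Matrix.mul_zero, smul_zero, add_zero]

theorem jMat_pow {a b : F} (h : a ^ 2 + b ^ 2 = -1) {p : ℕ} (hp : p.Prime) (hp3 : 3 ≤ p) (hc : (p : F) = 0) :
    jMat a b ^ p = 1 := by
  have := Fact.mk hp
  have hch : CharP F p := by
    obtain ⟨c, hc'⟩ := CharP.exists F
    have h1 : c ∣ p := (CharP.cast_eq_zero_iff F c p).1 hc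
    rcases (Nat.dvd_prime hp).1 h1 with h2 | h2
    · exact absurd h2 (CharP.char_ne_one F c)
    · rwa [← h2]
  have h1 : jMat a b = 1 + (jMat a b - 1) := by abel
  rw [h1, add_pow_char_of_commute p (Commute.one_left _), one_pow]
  have h2 : (jMat a b - 1) ^ p = 0 := by
    obtain ⟨c, rfl⟩ := Nat.exists_eq_add_of_le hp3
    rw [pow_add, jMat_sub_cube h, zero_mul]
  rw [h2, add_zero]

/-- the fixed vectors of `j` -/
theorem jMat_fix {a b : F} (h : a ^ 2 + b ^ 2 = -1) (x : Fin 3 → F) :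
    jMat a b *ᵥ x = x ↔ x = x 2 • ![a, b, 1] := by
  have h3 := nMat_cube h
  have key : nMat a b *ᵥ x = 0 ↔ x = x 2 • ![a, b, 1] := by
    constructor
    · intro hx
      have e0 := congrFun hx 0
      have e1 := congrFun hx 1
      simp [nMat, Matrix.mulVec, dotProduct, Fin.sum_univ_three] at e0 e1
      funext i
      fin_cases i
      · simp
        linear_combination e1
      · simp
        linear_combination -e0
      · simp
    · intro hx
      rw [hx, Matrix.mulVec_smul]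
      have : nMat a b *ᵥ ![a, b, 1] = 0 := by
        funext i
        fin_cases i <;> simp [nMat, Matrix.mulVec, dotProduct, Fin.sum_univ_three] <;> ring
      rw [this, smul_zero]
  rw [← key]
  have hj : jMat a b *ᵥ x = x + nMat a b *ᵥ x + (2⁻¹ : F) • (nMat a b *ᵥ (nMat a b *ᵥ x)) := by
    unfold jMat
    rw [Matrix.add_mulVec, Matrix.add_mulVec, Matrix.one_mulVec, Matrix.smul_mulVec, Matrix.mulVec_mulVec]
  constructor
  · intro hx
    rw [hj] at hx
    have h4 : nMat a b *ᵥ x + (2⁻¹ : F) • (nMat a b *ᵥ (nMat a b *ᵥ x)) = 0 := by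
      have h5 : x + (nMat a b *ᵥ x + (2⁻¹ : F) • (nMat a b *ᵥ (nMat a b *ᵥ x))) = x + 0 := by
        rw [add_zero, ← add_assoc]; exact hx
      exact add_left_cancel h5
    have h5 : nMat a b *ᵥ (nMat a b *ᵥ x) = 0 := by
      have h6 := congrArg (fun v => nMat a b *ᵥ v) h4
      simp only [Matrix.mulVec_add, Matrix.mulVec_smul, Matrix.mulVec_zero] at h6
      have h7 : nMat a b *ᵥ (nMat a b *ᵥ (nMat a b *ᵥ x)) = 0 := by
        rw [Matrix.mulVec_mulVec, Matrix.mulVec_mulVec, h3, Matrix.zero_mulVec]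
      rwa [h7, smul_zero, add_zero] at h6
    rwa [h5, smul_zero, add_zero] at h4
  · intro hx
    rw [hj, hx, Matrix.mulVec_zero, smul_zero, add_zero, add_zero]

end phi

end Cfsg.Agent.H109.Cov
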