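import Cfsg.Agent.H109.Cov.ElA
import Cfsg.Agent.Lib.PSL2Torus

/-!
# S2499, `PSp_6(q)`: the element `z = h ⊗ j`, its invariant subspaces (helper109)

* `exists_h` : an element of `SL_2(q)` of order prime to `p` without eigenvectors;
* `exists_z` : the element `z`.
-/

set_option autoImplicit false

namespace Cfsg.Agent.H109.Cov

open Cfsg Cfsg.Geo Module Cfsg.Agent.ClassicalGeometry.SympBasic
open Cfsg.Agent.H876 (spToGL)
open scoped Matrix MatrixGroups

universe u

section tens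

variable {F : Type u} [Field F]

/-- `c ↦ c ⊗ w` -/
def tens (w : Fin 3 → F) : (Fin 2 → F) →ₗ[F] (Fin 3 ⊕ Fin 3 → F) where
  toFun c := Sum.elim (c 0 • w) (c 1 • w)
  map_add' c d := by
    funext i
    rcases i with i | i <;> simp [add_mul]
  map_smul' r c := by
    funext i
    rcases i with i | i <;> simp [mul_assoc]

theorem tens_apply (w : Fin 3 → F) (c : Fin 2 → F) : tens w c = Sum.elim (c 0 • w) (c 1 • w) := rfl

theorem tens_inj {w : Fin 3 → F} (hw : w 2 = 1) : Function.Injective (tens w) := by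
  intro c d h
  have h0 := congrFun h (Sum.inl 2)
  have h1 := congrFun h (Sum.inr 2)
  simp [tens_apply, hw] at h0 h1
  funext i
  fin_cases i
  · exact h0
  · exact h1

theorem phi_tens (h : Matrix (Fin 2) (Fin 2) F) (w : Fin 3 → F) (c : Fin 2 → F) :
    phiMat h *ᵥ tens w c = tens w (h *ᵥ c) := by
  unfold phiMat
  rw [Matrix.fromBlocks_mulVec, tens_apply, tens_apply]
  funext i
  rcases i with i | i <;>
  simp [Matrix.smul_mulVec, Matrix.mulVec, dotProduct, Fin.sum_univ_two, Matrix.one_apply] <;> ring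

theorem psi_fix_iff {a b : F} (h : a ^ 2 + b ^ 2 = -1) (x : Fin 3 ⊕ Fin 3 → F) :
    psiMat (jMat a b) *ᵥ x = x ↔ x ∈ LinearMap.range (tens ![a, b, 1]) := by
  unfold psiMat
  rw [Matrix.fromBlocks_mulVec, Matrix.zero_mulVec, Matrix.zero_mulVec, add_zero, zero_add]
  constructor
  · intro hx
    have e0 : jMat a b *ᵥ (x ∘ Sum.inl) = x ∘ Sum.inl := by
      funext i
      exact congrFun hx (Sum.inl i)
    have e1 : jMat a b *ᵥ (x ∘ Sum.inr) = x ∘ Sum.inr := by
      funext i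
      exact congrFun hx (Sum.inr i)
    rw [jMat_fix h] at e0 e1
    refine ⟨![x (Sum.inl 2), x (Sum.inr 2)], ?_⟩
    funext i
    rcases i with i | i
    · exact (congrFun e0 i).symm
    · exact (congrFun e1 i).symm
  · rintro ⟨c, rfl⟩
    have e0 : jMat a b *ᵥ (tens ![a, b, 1] c ∘ Sum.inl) = tens ![a, b, 1] c ∘ Sum.inl := by
      rw [jMat_fix h]
      funext i
      fin_cases i <;> simp [tens_apply]
    have e1 : jMat a b *ᵥ (tens ![a, b, 1] c ∘ Sum.inr) = tens ![a, b, 1] c ∘ Sum.inr := by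
      rw [jMat_fix h]
      funext i
      fin_cases i <;> simp [tens_apply]
    rw [e0, e1]
    exact Sum.elim_comp_inl_inr _

theorem tens_ts {w : Fin 3 → F} (hw : w ⬝ᵥ w = 0) (c d : Fin 2 → F) : sympForm 3 F (tens w c) (tens w d) = 0 := by
  rw [sympForm_eq_sum]
  have h1 : ∀ i, tens w c (Sum.inr i) * tens w d (Sum.inl i) - tens w c (Sum.inl i) * tens w d (Sum.inr i) =
      (c 1 * d 0 - c 0 * d 1) * (w i * w i) := by
    intro i
    simp [tens_apply]
    ring
  rw [Finset.sum_congr rfl fun i _ => h1 i, ← Finset.mul_sum]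
  have : ∑ i, w i * w i = 0 := hw
  rw [this, mul_zero]

/-- an invariant subspace of dimension at most 2 of `z` -/
theorem inv_sub {a b : F} (hab : a ^ 2 + b ^ 2 = -1) {h : Matrix (Fin 2) (Fin 2) F}
    (hh : ∀ (c : Fin 2 → F) (r : F), h *ᵥ c = r • c → c = 0) {z u : GL (Fin 3 ⊕ Fin 3) F} {k : ℕ} (hzu : z ^ k = u)
    (hz : (z : Matrix (Fin 3 ⊕ Fin 3) (Fin 3 ⊕ Fin 3) F) = phiMat h * psiMat (jMat a b))
    (hu : (u : Matrix (Fin 3 ⊕ Fin 3) (Fin 3 ⊕ Fin 3) F) = psiMat (jMat a b))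
    {X : Submodule F (Fin 3 ⊕ Fin 3 → F)} (hX : Inv z X) (hX0 : X ≠ ⊥) (hX2 : finrank F X ≤ 2) :
    finrank F X = 2 ∧ IsTotallySingularFor (sympForm 3 F) X := by
  set w : Fin 3 → F := ![a, b, 1] with hw
  have hw2 : w 2 = 1 := by simp [hw]
  have hinj := tens_inj hw2
  have hXu : Inv u X := by rw [← hzu]; exact hX.pow k
  -- a fixed vector of u
  have hcube : ∀ v : Fin 3 ⊕ Fin 3 → F, (psiMat (jMat a b) - 1) *ᵥ ((psiMat (jMat a b) - 1) *ᵥ
      ((psiMat (jMat a b) - 1) *ᵥ v)) = 0 := by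
    intro v
    rw [Matrix.mulVec_mulVec, Matrix.mulVec_mulVec]
    have h1 : psiMat (jMat a b) - 1 = psiMat (jMat a b - 1) := by
      unfold psiMat
      rw [← Matrix.fromBlocks_one, sub_eq_add_neg, Matrix.fromBlocks_neg, Matrix.fromBlocks_add]
      simp [sub_eq_add_neg]
    have h2 : (psiMat (jMat a b) - 1) ^ 3 = 0 := by
      rw [h1, psiMat_pow, jMat_sub_cube hab]
      unfold psiMat
      exact Matrix.fromBlocks_zero
    have h3 : (psiMat (jMat a b) - 1) * (psiMat (jMat a b) - 1) * (psiMat (jMat a b) - 1) = 0 := by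
      rw [← h2, pow_succ, pow_two]
    rw [h3, Matrix.zero_mulVec]
  have hE : ∀ v ∈ X, (psiMat (jMat a b) - 1) *ᵥ v ∈ X := by
    intro v hv
    rw [Matrix.sub_mulVec, Matrix.one_mulVec]
    apply X.sub_mem _ hv
    rw [← hu]
    exact hXu v hv
  have hfix : ∀ v, (psiMat (jMat a b) - 1) *ᵥ v = 0 → v ∈ LinearMap.range (tens w) := by
    intro v hv
    rw [Matrix.sub_mulVec, Matrix.one_mulVec, sub_eq_zero] at hv
    exact (psi_fix_iff hab v).1 hv
  obtain ⟨v, hv, hv0, c, hc⟩ : ∃ v ∈ X, v ≠ 0 ∧ v ∈ LinearMap.range (tens w) := by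
    obtain ⟨v, hv, hv0⟩ := (Submodule.ne_bot_iff _).1 hX0
    by_cases h1 : (psiMat (jMat a b) - 1) *ᵥ v = 0
    · exact ⟨v, hv, hv0, hfix _ h1⟩
    by_cases h2 : (psiMat (jMat a b) - 1) *ᵥ ((psiMat (jMat a b) - 1) *ᵥ v) = 0
    · exact ⟨_, hE _ hv, h1, hfix _ h2⟩
    · exact ⟨_, hE _ (hE _ hv), h2, hfix _ (hcube v)⟩
  have hc0 : c ≠ 0 := by
    rintro rfl
    rw [map_zero] at hc
    exact hv0 hc.symm
  have hzt : ∀ d, (z : Matrix (Fin 3 ⊕ Fin 3) (Fin 3 ⊕ Fin 3) F) *ᵥ tens w d = tens w (h *ᵥ d) := by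
    intro d
    rw [hz, ← Matrix.mulVec_mulVec, (psi_fix_iff hab (tens w d)).2 ⟨d, rfl⟩, phi_tens]
  set C : Submodule F (Fin 2 → F) := X.comap (tens w) with hC
  have hcC : c ∈ C := by rw [hC, Submodule.mem_comap, hc]; exact hv
  have hCinv : ∀ d ∈ C, h *ᵥ d ∈ C := by
    intro d hd
    rw [hC, Submodule.mem_comap] at hd ⊢
    rw [← hzt]
    exact hX _ hd
  have hCtop : C = ⊤ := by
    by_contra hne
    have h1 : finrank F C < 2 := by
      have := Submodule.finrank_lt_finrank_of_lt (lt_top_iff_ne_top.2 hne)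
      rwa [finrank_top, finrank_fintype_fun_eq_card, Fintype.card_fin] at this
    have h2 : finrank F C ≤ 1 := by omega
    obtain ⟨⟨e, he⟩, hgen⟩ := finrank_le_one_iff.1 h2
    obtain ⟨r1, hr1⟩ := hgen ⟨c, hcC⟩
    obtain ⟨r2, hr2⟩ := hgen ⟨h *ᵥ c, hCinv c hcC⟩
    have hr1' : r1 • e = c := congrArg Subtype.val hr1
    have hr2' : r2 • e = h *ᵥ c := congrArg Subtype.val hr2
    have hr10 : r1 ≠ 0 := by
      rintro rfl
      rw [zero_smul] at hr1'
      exact hc0 hr1'.symm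
    apply hc0
    apply hh c (r2 * r1⁻¹)
    rw [← hr2', ← hr1', smul_smul, mul_assoc, inv_mul_cancel₀ hr10, mul_one]
  have hle : LinearMap.range (tens w) ≤ X := by
    rintro _ ⟨d, rfl⟩
    have : d ∈ C := by rw [hCtop]; trivial
    exact this
  have hr : finrank F (LinearMap.range (tens w)) = 2 := by
    rw [LinearMap.finrank_range_of_inj hinj, finrank_fintype_fun_eq_card, Fintype.card_fin]
  have h2 := Submodule.finrank_mono hle
  have h3 : LinearMap.range (tens w) = X := Submodule.eq_of_le_of_finrank_eq hle (by omega)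
  refine ⟨by omega, ?_⟩
  rw [← h3]
  rintro _ ⟨d, rfl⟩ _ ⟨e, rfl⟩
  apply tens_ts
  simp [hw, dotProduct, Fin.sum_univ_three]
  linear_combination hab

end tens

section exist

variable {F : Type u} [Field F] [Fintype F] {p f : ℕ}

/-- an element of `SL_2(q)` of order prime to `p` without eigenvectors -/
theorem exists_h (hp : p.Prime) (h5 : 5 ≤ p) (hf : 1 ≤ f) (hF : Nat.card F = p ^ f) :
    ∃ (h : Matrix.SpecialLinearGroup (Fin 2) F) (m : ℕ), Nat.Coprime m p ∧ h ^ m = 1 ∧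
      ∀ (c : Fin 2 → F) (r : F), (h : Matrix (Fin 2) (Fin 2) F) *ᵥ c = r • c → c = 0 := by
  classical
  have hq5 : 5 ≤ p ^ f := by
    calc 5 ≤ p := h5
      _ = p ^ 1 := (pow_one _).symm
      _ ≤ p ^ f := Nat.pow_le_pow_right (by omega) hf
  have hodd : Odd (p ^ f) := (hp.odd_of_ne_two (by omega)).pow
  have hF' : Fintype.card F = p ^ f := by rw [← Nat.card_eq_fintype_card]; exact hF
  by_cases h3 : p ^ f % 4 = 3
  · -- the element of order 4
    let h : Matrix.SpecialLinearGroup (Fin 2) F := ⟨!![0, -1; 1, 0], by simp [Matrix.det_fin_two]⟩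
    have hsq : (h : Matrix (Fin 2) (Fin 2) F) * (h : Matrix (Fin 2) (Fin 2) F) = -1 := by
      change !![(0 : F), -1; 1, 0] * !![(0 : F), -1; 1, 0] = -1
      ext i j
      fin_cases i <;> fin_cases j <;> simp [Matrix.mul_apply, Fin.sum_univ_two]
    refine ⟨h, 4, ?_, ?_, ?_⟩
    · have h2 : Nat.Coprime 2 p := (Nat.coprime_primes Nat.prime_two hp).2 (by omega)
      exact Nat.Coprime.pow_left 2 h2
    · apply Subtype.ext
      rw [Matrix.SpecialLinearGroup.coe_pow, show (4 : ℕ) = 2 * 2 from rfl, pow_mul, pow_two, pow_two, hsq]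
      simp
    · intro c r hc
      by_contra hc0
      have h4 : (h : Matrix (Fin 2) (Fin 2) F) *ᵥ ((h : Matrix (Fin 2) (Fin 2) F) *ᵥ c) = (r * r) • c := by
        rw [hc, Matrix.mulVec_smul, hc, smul_smul]
      rw [Matrix.mulVec_mulVec, hsq, Matrix.neg_mulVec, Matrix.one_mulVec] at h4
      have h6 : (r * r + 1) • c = 0 := by
        rw [add_smul, one_smul, ← h4]
        exact neg_add_cancel c
      have h7 : r * r + 1 = 0 := (smul_eq_zero.1 h6).resolve_right hc0
      have h8 : IsSquare (-1 : F) := ⟨r, by linear_combination -h7⟩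
      rw [FiniteField.isSquare_neg_one_iff] at h8
      exact h8 (by rw [hF']; exact h3)
  · -- an odd prime divisor of `q + 1`
    have h1 : p ^ f % 4 = 1 := by
      rcases hodd with ⟨k, hk⟩
      omega
    obtain ⟨l, hl, hl2, hlq⟩ : ∃ l : ℕ, l.Prime ∧ l ≠ 2 ∧ l ∣ p ^ f + 1 := by
      have h2 : (p ^ f + 1) / 2 ≠ 1 := by omega
      obtain ⟨l, hl, hld⟩ := Nat.exists_prime_and_dvd h2
      refine ⟨l, hl, ?_, ?_⟩
      · rintro rfl
        omega
      · refine hld.trans ⟨2, by omega⟩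
    have hlp : ¬ l ∣ p ^ f := by
      intro h
      have h2 : l ∣ 1 := (Nat.dvd_add_right h).1 hlq
      exact hl.one_lt.ne' (Nat.dvd_one.1 h2)
    have := Fact.mk hl
    obtain ⟨h, hh⟩ := exists_prime_orderOf_dvd_card' (G := Matrix.SpecialLinearGroup (Fin 2) F) l (by
      rw [ClassicalGeometry.PSL2Basic.card_SL2, hF']
      apply Dvd.dvd.mul_left
      refine hlq.trans ⟨p ^ f - 1, ?_⟩
      have : 1 ≤ p ^ f := by omega
      zify [this, Nat.one_le_pow 2 (p ^ f) (by omega)]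
      ring)
    have hhl : h ^ l = 1 := by rw [← hh, pow_orderOf_eq_one]
    have hh1 : h ≠ 1 := by
      rintro rfl
      rw [orderOf_one] at hh
      exact hl.one_lt.ne hh
    -- the primitive property
    have hk : ∀ i, l ∣ Nat.card F ^ i - 1 → 2 ∣ i := by
      intro i hi
      by_contra hodd'
      have hoi : Odd i := by
        rcases Nat.even_or_odd i with h | h
        · exact absurd h.two_dvd hodd'
        · exact h
      rw [hF] at hi
      have h2 : l ∣ (p ^ f) ^ i + 1 := by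
        have := hoi.nat_add_dvd_pow_add_pow (p ^ f) 1
        rw [one_pow] at this
        exact hlq.trans this
      have h4 : 1 ≤ (p ^ f) ^ i := Nat.one_le_pow _ _ (by omega)
      have h6 : l ∣ 2 := by
        have h7 := Nat.dvd_sub h2 hi
        rwa [show (p ^ f) ^ i + 1 - ((p ^ f) ^ i - 1) = 2 by omega] at h7
      exact hl2 ((Nat.prime_dvd_prime_iff_eq hl Nat.prime_two).1 h6)
    let g : GL (Fin 2) F := (h : GL (Fin 2) F)
    have hgv : (g : Matrix (Fin 2) (Fin 2) F) = (h : Matrix (Fin 2) (Fin 2) F) := rfl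
    have hgl : g ^ l = 1 := by
      apply Units.ext
      rw [Units.val_pow_eq_pow_val, hgv, ← Matrix.SpecialLinearGroup.coe_pow, hhl]
      rfl
    have hg1 : g ≠ 1 := by
      intro hg
      apply hh1
      apply Subtype.ext
      exact congrArg (fun x : GL (Fin 2) F => (x : Matrix (Fin 2) (Fin 2) F)) hg
    have hfx : finrank F (fx g) = 0 := by
      have h2 := dvd_dim hl (by rw [hF]; exact hlp) hk hgl (X := ⊤) (fun _ _ => trivial)
      rw [finrank_top, finrank_fintype_fun_eq_card, Fintype.card_fin, top_inf_eq] at h2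
      have h4 := finrank_fx_lt hg1
      rw [Fintype.card_fin] at h4
      omega
    refine ⟨h, l, (Nat.coprime_primes hl hp).2 (fun h => hlp (by rw [h]; exact dvd_pow_self _ (by omega))), hhl, ?_⟩
    intro c r hc
    by_contra hc0
    have hinv : Inv g (Submodule.span F {c}) := by
      intro v hv
      obtain ⟨t, rfl⟩ := Submodule.mem_span_singleton.1 hv
      rw [hgv, Matrix.mulVec_smul, hc, smul_smul]
      exact Submodule.smul_mem _ _ (Submodule.mem_span_singleton_self c)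
    have h2 := dvd_dim hl (by rw [hF]; exact hlp) hk hgl hinv
    rw [finrank_span_singleton hc0] at h2
    have h4 : finrank F (Submodule.span F {c} ⊓ fx g : Submodule F (Fin 2 → F)) ≤ finrank F (fx g) :=
      Submodule.finrank_mono inf_le_right
    omega

/-- **the element `z`** -/
theorem exists_z (hp : p.Prime) (h5 : 5 ≤ p) (hf : 1 ≤ f) (hF : Nat.card F = p ^ f) :
    ∃ z : Matrix.symplecticGroup (Fin 3) F, (∃ (k : ℕ) (u : Matrix.symplecticGroup (Fin 3) F), z ^ k = u ∧ orderOf u = p ∧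
        finrank F (LinearMap.ker (Polynomial.aeval (Matrix.toLin' ((spToGL 3 F u : GL (Fin 3 ⊕ Fin 3) F) :
          Matrix (Fin 3 ⊕ Fin 3) (Fin 3 ⊕ Fin 3) F)) (Polynomial.X - 1 : Polynomial F))) = 2) ∧
      ∀ X : Submodule F (Fin 3 ⊕ Fin 3 → F), Inv (spToGL 3 F z) X → X ≠ ⊥ → finrank F X ≤ 2 →
        finrank F X = 2 ∧ IsTotallySingularFor (sympForm 3 F) X := by
  obtain ⟨h, m, hm, hhm, hh⟩ := exists_h hp h5 hf hF
  have h2 : (2 : F) ≠ 0 := by
    have := cast_ne hp hF Nat.prime_two (by omega)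
    exact_mod_cast this
  have hch : (p : F) = 0 := by
    obtain ⟨c, hc⟩ := CharP.exists F
    obtain ⟨k, hcp, hk⟩ := FiniteField.card F c
    have h3 : c = p := char_eq hp hF hcp
    rw [← h3]
    exact CharP.cast_eq_zero F c
  obtain ⟨a, b, hab⟩ := Lib.PSL2Torus.exists_sum_sq h2 (-1 : F)
  have hj := jMat_orth hab h2
  have hu : (psi (jMat a b) hj) ^ p = 1 := by
    apply Subtype.ext
    change psiMat (jMat a b) ^ p = 1
    rw [psiMat_pow, jMat_pow hab hp (by omega) hch]
    exact Matrix.fromBlocks_one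
  have hph : (phi h) ^ m = 1 := by rw [← map_pow, hhm, map_one]
  obtain ⟨k, hk⟩ := exists_pow_right (commute_phi_psi h (jMat a b) hj) hph hu hm
  have hfin : finrank F (LinearMap.ker (Polynomial.aeval (Matrix.toLin' ((spToGL 3 F (psi (jMat a b) hj) :
      GL (Fin 3 ⊕ Fin 3) F) : Matrix (Fin 3 ⊕ Fin 3) (Fin 3 ⊕ Fin 3) F)) (Polynomial.X - 1 : Polynomial F))) = 2 := by
    have h1 : LinearMap.ker (Polynomial.aeval (Matrix.toLin' ((spToGL 3 F (psi (jMat a b) hj) :
      GL (Fin 3 ⊕ Fin 3) F) : Matrix (Fin 3 ⊕ Fin 3) (Fin 3 ⊕ Fin 3) F)) (Polynomial.X - 1 : Polynomial F)) =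
        LinearMap.range (tens ![a, b, 1]) := by
      ext x
      rw [LinearMap.mem_ker, map_sub, Polynomial.aeval_X, map_one, LinearMap.sub_apply,
        Matrix.toLin'_apply, ← psi_fix_iff hab, Module.End.one_apply, sub_eq_zero]
      rfl
    rw [h1, LinearMap.finrank_range_of_inj (tens_inj (by simp)), finrank_fintype_fun_eq_card, Fintype.card_fin]
  refine ⟨phi h * psi (jMat a b) hj, ⟨k, psi (jMat a b) hj, hk, ?_, hfin⟩, ?_⟩
  · have := Fact.mk hp
    apply orderOf_eq_prime hu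
    intro h1
    rw [h1, map_one, Units.val_one, Matrix.toLin'_one, map_sub, Polynomial.aeval_X, map_one] at hfin
    have h3 : (LinearMap.id : (Fin 3 ⊕ Fin 3 → F) →ₗ[F] (Fin 3 ⊕ Fin 3 → F)) - 1 = 0 := sub_self _
    rw [h3, LinearMap.ker_zero, finrank_top, finrank_fintype_fun_eq_card] at hfin
    have h4 : Fintype.card (Fin 3 ⊕ Fin 3) = 6 := rfl
    omega
  · intro X hX hX0 hX2
    exact inv_sub hab hh (u := spToGL 3 F (psi (jMat a b) hj)) (by rw [← map_pow, hk]) rfl rfl hX hX0 hX2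

end exist

end Cfsg.Agent.H109.Cov
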