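import Cfsg.Agent.H109.Cov.Kill

/-!
# S2499, `PSp_6(q)`: the element `diag (M, M⁻ᵀ)`, `M ∈ GL_3(q)` of prime order `l` (exponent 3) (helper109)

* `exists_c` : an element `x` of `Sp_6(q)` of order `l` without invariant subspaces of dimension 1, 2, and a
  polynomial `P` with `dim ker P(x) = 3`.
-/

set_option autoImplicit false

namespace Cfsg.Agent.H109.Cov

open Cfsg Cfsg.Geo Module Cfsg.Agent.ClassicalGeometry.SympBasic
open Cfsg.Agent.H876 (spToGL)
open scoped Matrix MatrixGroups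

universe u

section dg

variable {F : Type u} [Field F]

/-- `diag (M, M⁻ᵀ)` -/
def dgMat (M : GL (Fin 3) F) : Matrix (Fin 3 ⊕ Fin 3) (Fin 3 ⊕ Fin 3) F :=
  Matrix.fromBlocks (M : Matrix (Fin 3) (Fin 3) F) 0 0 ((M⁻¹ : GL (Fin 3) F) : Matrix (Fin 3) (Fin 3) F)ᵀ

theorem inv_mul' (M : GL (Fin 3) F) : ((M⁻¹ : GL (Fin 3) F) : Matrix (Fin 3) (Fin 3) F) *
    (M : Matrix (Fin 3) (Fin 3) F) = 1 := by rw [← Units.val_mul, inv_mul_cancel, Units.val_one]

theorem mul_inv' (M : GL (Fin 3) F) : (M : Matrix (Fin 3) (Fin 3) F) *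
    ((M⁻¹ : GL (Fin 3) F) : Matrix (Fin 3) (Fin 3) F) = 1 := by rw [← Units.val_mul, mul_inv_cancel, Units.val_one]

theorem dg_mem (M : GL (Fin 3) F) : dgMat M ∈ Matrix.symplecticGroup (Fin 3) F := by
  rw [SymplecticGroup.mem_iff]
  unfold dgMat Matrix.J
  rw [Matrix.fromBlocks_transpose, Matrix.fromBlocks_multiply, Matrix.fromBlocks_multiply]
  simp only [Matrix.transpose_zero, Matrix.transpose_transpose, Matrix.mul_zero, Matrix.zero_mul, add_zero, zero_add,
    Matrix.mul_neg, Matrix.mul_one, Matrix.neg_mul]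
  rw [mul_inv', ← Matrix.transpose_mul, mul_inv', Matrix.transpose_one, neg_zero]

/-- `M ↦ diag (M, M⁻ᵀ)` -/
def dg : GL (Fin 3) F →* Matrix.symplecticGroup (Fin 3) F where
  toFun M := ⟨dgMat M, dg_mem M⟩
  map_one' := by
    apply Subtype.ext
    change dgMat 1 = 1
    unfold dgMat
    simp [Matrix.fromBlocks_one]
  map_mul' M N := by
    apply Subtype.ext
    change dgMat (M * N) = dgMat M * dgMat N
    unfold dgMat
    rw [Matrix.fromBlocks_multiply, mul_inv_rev, Units.val_mul, Units.val_mul, Matrix.transpose_mul]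
    simp

theorem dg_inj : Function.Injective (dg (F := F)) := by
  intro M N h
  apply Units.ext
  have h1 : dgMat M = dgMat N := congrArg Subtype.val h
  have h2 := congrArg Matrix.toBlocks₁₁ h1
  unfold dgMat at h2
  rwa [Matrix.toBlocks_fromBlocks₁₁, Matrix.toBlocks_fromBlocks₁₁] at h2

theorem dgMat_mulVec (M : GL (Fin 3) F) (v : Fin 3 ⊕ Fin 3 → F) :
    dgMat M *ᵥ v = Sum.elim ((M : Matrix (Fin 3) (Fin 3) F) *ᵥ (v ∘ Sum.inl))
      (((M⁻¹ : GL (Fin 3) F) : Matrix (Fin 3) (Fin 3) F)ᵀ *ᵥ (v ∘ Sum.inr)) := by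
  unfold dgMat
  rw [Matrix.fromBlocks_mulVec, Matrix.zero_mulVec, Matrix.zero_mulVec, add_zero, zero_add]

theorem aeval_dg (M : GL (Fin 3) F) (P : Polynomial F) (v : Fin 3 ⊕ Fin 3 → F) :
    Polynomial.aeval (Matrix.toLin' (dgMat M)) P v =
      Sum.elim (Polynomial.aeval (Matrix.toLin' (M : Matrix (Fin 3) (Fin 3) F)) P (v ∘ Sum.inl))
        (Polynomial.aeval (Matrix.toLin' ((M⁻¹ : GL (Fin 3) F) : Matrix (Fin 3) (Fin 3) F)ᵀ) P (v ∘ Sum.inr)) := by
  induction P using Polynomial.induction_on' generalizing v with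
  | add P Q hP hQ =>
    rw [map_add, map_add, map_add, LinearMap.add_apply, LinearMap.add_apply, LinearMap.add_apply, hP, hQ]
    funext i
    rcases i with i | i <;> simp
  | monomial n a =>
    rw [Polynomial.aeval_monomial, Polynomial.aeval_monomial, Polynomial.aeval_monomial]
    change a • ((Matrix.toLin' (dgMat M)) ^ n) v = Sum.elim
      (a • ((Matrix.toLin' (M : Matrix (Fin 3) (Fin 3) F)) ^ n) (v ∘ Sum.inl))
      (a • ((Matrix.toLin' ((M⁻¹ : GL (Fin 3) F) : Matrix (Fin 3) (Fin 3) F)ᵀ) ^ n) (v ∘ Sum.inr))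
    have h1 : ((Matrix.toLin' (dgMat M)) ^ n) v = Sum.elim
        (((Matrix.toLin' (M : Matrix (Fin 3) (Fin 3) F)) ^ n) (v ∘ Sum.inl))
        (((Matrix.toLin' ((M⁻¹ : GL (Fin 3) F) : Matrix (Fin 3) (Fin 3) F)ᵀ) ^ n) (v ∘ Sum.inr)) := by
      induction n with
      | zero => rw [pow_zero, pow_zero, pow_zero]; exact (Sum.elim_comp_inl_inr v).symm
      | succ n ih =>
        rw [pow_succ', pow_succ', pow_succ', Module.End.mul_apply, Module.End.mul_apply, Module.End.mul_apply, ih,
          Matrix.toLin'_apply, dgMat_mulVec, Sum.elim_comp_inl, Sum.elim_comp_inr, Matrix.toLin'_apply,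
          Matrix.toLin'_apply]
    rw [h1]
    funext i
    rcases i with i | i <;> simp

end dg

section ker

variable {F : Type u} [Field F]

/-- the cubic polynomial of `M` and the inverse transpose -/
theorem ker_zero (h2 : (2 : F) ≠ 0) {M : GL (Fin 3) F} {l : ℕ} (hl : Odd l) (hMl : M ^ l = 1)
    (hdet : (M : Matrix (Fin 3) (Fin 3) F).det = 1) (hfx : fx M = ⊥) {y : Fin 3 → F}
    (hy : Polynomial.aeval (Matrix.toLin' ((M⁻¹ : GL (Fin 3) F) : Matrix (Fin 3) (Fin 3) F)ᵀ)
      (M : Matrix (Fin 3) (Fin 3) F).charpoly y = 0) : y = 0 := by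
  set P := (M : Matrix (Fin 3) (Fin 3) F).charpoly with hP
  have hdeg : P.natDegree = 3 := by
    rw [hP, Matrix.charpoly_natDegree_eq_dim, Fintype.card_fin]
  have hmon : P.Monic := Matrix.charpoly_monic _
  have hc3 : P.coeff 3 = 1 := by rw [← hdeg]; exact hmon
  have hc0 : P.coeff 0 = -1 := by
    have h := Matrix.det_eq_sign_charpoly_coeff (M : Matrix (Fin 3) (Fin 3) F)
    rw [hdet, Fintype.card_fin, ← hP] at h
    linear_combination h
  have hev : ∀ {A : Type u} [Ring A] [Algebra F A] (x : A),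
      Polynomial.aeval x P = -1 + P.coeff 1 • x + P.coeff 2 • (x * x) + x * x * x := by
    intro A _ _ x
    rw [Polynomial.aeval_eq_sum_range, hdeg, Finset.sum_range_succ, Finset.sum_range_succ, Finset.sum_range_succ,
      Finset.sum_range_one, hc0, hc3, pow_zero, pow_one, one_smul, neg_smul, one_smul, pow_two, pow_succ, pow_two]
  set N : Matrix (Fin 3) (Fin 3) F := ((M⁻¹ : GL (Fin 3) F) : Matrix (Fin 3) (Fin 3) F)ᵀ with hN
  set R : Matrix (Fin 3) (Fin 3) F := (M : Matrix (Fin 3) (Fin 3) F)ᵀ with hR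
  have hNR : N * R = 1 := by rw [hN, hR, ← Matrix.transpose_mul, mul_inv', Matrix.transpose_one]
  have hRN : R * N = 1 := by rw [hN, hR, ← Matrix.transpose_mul, inv_mul', Matrix.transpose_one]
  set a := P.coeff 1 with ha
  set b := P.coeff 2 with hb
  have hCH : -1 + a • R + b • (R * R) + R * R * R = 0 := by
    have h1 := Matrix.aeval_self_charpoly (M : Matrix (Fin 3) (Fin 3) F)
    rw [← hP, hev] at h1
    have h3 := congrArg Matrix.transpose h1
    simp only [Matrix.transpose_add, Matrix.transpose_neg, Matrix.transpose_one, Matrix.transpose_smul,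
      Matrix.transpose_mul, Matrix.transpose_zero] at h3
    rw [← hR, ← Matrix.mul_assoc] at h3
    exact h3
  -- the equation of `N`
  have hN3 : N * N * N = 1 + b • N + a • (N * N) := by
    have h1 : N * N * N * (-1 + a • R + b • (R * R) + R * R * R) = 0 := by rw [hCH, Matrix.mul_zero]
    have e1 : N * N * N * R = N * N := by rw [Matrix.mul_assoc, hNR, Matrix.mul_one]
    have e2 : N * N * N * (R * R) = N := by rw [← Matrix.mul_assoc, e1, Matrix.mul_assoc, hNR, Matrix.mul_one]
    have e3 : N * N * N * (R * R * R) = 1 := by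
      rw [← Matrix.mul_assoc (N * N * N), e2, hNR]
    rw [Matrix.mul_add, Matrix.mul_add, Matrix.mul_add, Matrix.mul_smul, Matrix.mul_smul, e1, e2, e3, Matrix.mul_neg,
      Matrix.mul_one] at h1
    have h3 : N * N * N = N * N * N + (-(N * N * N) + a • (N * N) + b • N + 1) := by rw [h1, add_zero]
    rw [h3]
    abel
  have hy' : -y + a • (N *ᵥ y) + b • (N *ᵥ (N *ᵥ y)) + N *ᵥ (N *ᵥ (N *ᵥ y)) = 0 := by
    rw [hev] at hy
    have h1 : (-1 + a • Matrix.toLin' N + b • (Matrix.toLin' N * Matrix.toLin' N) +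
        Matrix.toLin' N * Matrix.toLin' N * Matrix.toLin' N : Module.End F (Fin 3 → F)) y =
        -y + a • (N *ᵥ y) + b • (N *ᵥ (N *ᵥ y)) + N *ᵥ (N *ᵥ (N *ᵥ y)) := by
      simp [LinearMap.add_apply, Module.End.mul_apply, Matrix.toLin'_apply]
    rw [← h1]
    exact hy
  have hN3' : N *ᵥ (N *ᵥ (N *ᵥ y)) = y + b • (N *ᵥ y) + a • (N *ᵥ (N *ᵥ y)) := by
    have h1 := congrArg (fun A => A *ᵥ y) hN3
    simp only [Matrix.add_mulVec, Matrix.smul_mulVec, Matrix.one_mulVec, ← Matrix.mulVec_mulVec] at h1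
    exact h1
  have hab : (a + b) • (N *ᵥ y + N *ᵥ (N *ᵥ y)) = 0 := by
    rw [hN3'] at hy'
    rw [← hy']
    module
  rcases smul_eq_zero.1 hab with h | h
  · -- `P(1) = 0`
    exfalso
    have h1 : P.eval 1 = 0 := by
      have h3 := hev (1 : F)
      rw [Polynomial.coe_aeval_eq_eval] at h3
      rw [h3]
      simp only [smul_eq_mul, mul_one]
      linear_combination h
    rw [hP, Matrix.eval_charpoly] at h1
    obtain ⟨v, hv0, hv⟩ := Matrix.exists_mulVec_eq_zero_iff.2 h1
    apply hv0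
    have h3 : v ∈ fx M := by
      rw [mem_fx]
      rw [map_one, Matrix.sub_mulVec, Matrix.one_mulVec, sub_eq_zero] at hv
      exact hv.symm
    rw [hfx] at h3
    exact h3
  · -- `-1` is an eigenvalue of `N`
    have h1 : y + N *ᵥ y = 0 := by
      have h3 := congrArg (fun v => R *ᵥ v) h
      simp only [Matrix.mulVec_add, Matrix.mulVec_mulVec, Matrix.mulVec_zero] at h3
      rw [← Matrix.mul_assoc, hRN, Matrix.one_mulVec, Matrix.one_mul] at h3
      exact h3
    have h3 : N *ᵥ y = (-1 : F) • y := by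
      rw [neg_smul, one_smul]
      exact eq_neg_of_add_eq_zero_right h1
    have h4 : ∀ n : ℕ, (N ^ n) *ᵥ y = ((-1 : F) ^ n) • y := by
      intro n
      induction n with
      | zero => simp
      | succ n ih => rw [pow_succ, ← Matrix.mulVec_mulVec, h3, Matrix.mulVec_smul, ih, smul_smul, ← pow_succ']
    have h5 : N ^ l = 1 := by
      rw [hN, ← Matrix.transpose_pow, ← Units.val_pow_eq_pow_val, inv_pow, hMl, inv_one, Units.val_one,
        Matrix.transpose_one]
    have h6 := h4 l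
    rw [h5, Matrix.one_mulVec, hl.neg_one_pow, neg_smul, one_smul] at h6
    have h7 : (2 : F) • y = 0 := by
      rw [two_smul]
      nth_rewrite 1 [h6]
      exact neg_add_cancel y
    exact (smul_eq_zero.1 h7).resolve_left h2

end ker

section exist

variable {F : Type u} [Field F] [Fintype F] {p f : ℕ}

/-- **the element `diag (M, M⁻ᵀ)`** -/
theorem exists_c (hp : p.Prime) (h5 : 5 ≤ p) (hf : 1 ≤ f) (hF : Nat.card F = p ^ f) {l : ℕ} (hl : PP p f 3 l) :
    ∃ x : Matrix.symplecticGroup (Fin 3) F, orderOf x = l ∧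
      (∃ P : Polynomial F, finrank F (LinearMap.ker (Polynomial.aeval (Matrix.toLin' ((spToGL 3 F x :
        GL (Fin 3 ⊕ Fin 3) F) : Matrix (Fin 3 ⊕ Fin 3) (Fin 3 ⊕ Fin 3) F)) P)) = 3) ∧
      ∀ X : Submodule F (Fin 3 ⊕ Fin 3 → F), Inv (spToGL 3 F x) X → X ≠ ⊥ → 3 ≤ finrank F X := by
  classical
  have := Fact.mk hl.prime
  have hl3 := hl.lt hf (by norm_num)
  have hlodd : Odd l := hl.prime.odd_of_ne_two (by omega)
  have h2 : (2 : F) ≠ 0 := by
    have := cast_ne hp hF Nat.prime_two (by omega)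
    exact_mod_cast this
  obtain ⟨M, hM⟩ := exists_prime_orderOf_dvd_card' (G := GL (Fin 3) F) l (by
    rw [Nat.card_eq_fintype_card, ← Nat.card_eq_fintype_card, Matrix.card_GL_field, Fin.prod_univ_three,
      ← Nat.card_eq_fintype_card, hF]
    apply Dvd.dvd.mul_right
    apply Dvd.dvd.mul_right
    simp only [Fin.val_zero, pow_zero]
    rw [hl.pow_iff hf])
  have hMl : M ^ l = 1 := by rw [← hM, pow_orderOf_eq_one]
  have hM1 : M ≠ 1 := by
    rintro rfl
    rw [orderOf_one] at hM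
    exact hl.prime.one_lt.ne hM
  have hfx3 : ∀ g : GL (Fin 3) F, g ^ l = 1 → g ≠ 1 → fx g = ⊥ := by
    intro g hg hg1
    have h3 := hl.dvd_fx hf hF hg
    have h4 := finrank_fx_lt hg1
    rw [Fintype.card_fin] at h3 h4
    rw [← Submodule.finrank_eq_zero (R := F)]
    omega
  have hfx := hfx3 M hMl hM1
  -- the determinant
  have hdet : (M : Matrix (Fin 3) (Fin 3) F).det = 1 := by
    let d : Fˣ := Matrix.GeneralLinearGroup.det M
    have h3 : d ^ l = 1 := by
      change (Matrix.GeneralLinearGroup.det M) ^ l = 1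
      rw [← map_pow, hMl, map_one]
    have h4 : orderOf d ∣ l := orderOf_dvd_of_pow_eq_one h3
    have h6 : orderOf d ∣ Nat.card Fˣ := orderOf_dvd_natCard d
    rw [Nat.card_units, hF] at h6
    have h7 : d = 1 := by
      rcases (Nat.dvd_prime hl.prime).1 h4 with h | h
      · exact orderOf_eq_one_iff.1 h
      · exfalso
        rw [h] at h6
        have h8 := (hl.pow_iff hf 1).1 (by rwa [pow_one])
        omega
    have h8 : (d : F) = (M : Matrix (Fin 3) (Fin 3) F).det := rfl
    rw [← h8, h7, Units.val_one]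
  -- the fixed space of `x`
  have hfxx : fx (spToGL 3 F (dg M)) = ⊥ := by
    rw [eq_bot_iff]
    intro v hv
    have hv' : dgMat M *ᵥ v = v := hv
    rw [dgMat_mulVec] at hv'
    have e0 : (M : Matrix (Fin 3) (Fin 3) F) *ᵥ (v ∘ Sum.inl) = v ∘ Sum.inl := by
      funext i
      exact congrFun hv' (Sum.inl i)
    have e1 : ((M⁻¹ : GL (Fin 3) F) : Matrix (Fin 3) (Fin 3) F)ᵀ *ᵥ (v ∘ Sum.inr) = v ∘ Sum.inr := by
      funext i
      exact congrFun hv' (Sum.inr i)
    have f0 : v ∘ Sum.inl = 0 := by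
      have : v ∘ Sum.inl ∈ fx M := e0
      rw [hfx] at this
      exact this
    have f1 : v ∘ Sum.inr = 0 := by
      let N : GL (Fin 3) F := ⟨((M⁻¹ : GL (Fin 3) F) : Matrix (Fin 3) (Fin 3) F)ᵀ, (M : Matrix (Fin 3) (Fin 3) F)ᵀ,
        by rw [← Matrix.transpose_mul, mul_inv', Matrix.transpose_one],
        by rw [← Matrix.transpose_mul, inv_mul', Matrix.transpose_one]⟩
      have hNl : N ^ l = 1 := by
        apply Units.ext
        rw [Units.val_pow_eq_pow_val]
        change (((M⁻¹ : GL (Fin 3) F) : Matrix (Fin 3) (Fin 3) F)ᵀ) ^ l = 1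
        rw [← Matrix.transpose_pow, ← Units.val_pow_eq_pow_val, inv_pow, hMl, inv_one, Units.val_one,
          Matrix.transpose_one]
      have hN1 : N ≠ 1 := by
        intro h
        apply hM1
        have h3 : ((M⁻¹ : GL (Fin 3) F) : Matrix (Fin 3) (Fin 3) F)ᵀ = 1 :=
          congrArg (fun x : GL (Fin 3) F => (x : Matrix (Fin 3) (Fin 3) F)) h
        have h4 : ((M⁻¹ : GL (Fin 3) F) : Matrix (Fin 3) (Fin 3) F) = 1 := by
          rw [← Matrix.transpose_transpose ((M⁻¹ : GL (Fin 3) F) : Matrix (Fin 3) (Fin 3) F), h3,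
            Matrix.transpose_one]
        have h6 : M⁻¹ = 1 := Units.ext h4
        exact inv_eq_one.1 h6
      have : v ∘ Sum.inr ∈ fx N := e1
      rw [hfx3 N hNl hN1] at this
      exact this
    rw [Submodule.mem_bot]
    funext i
    rcases i with i | i
    · exact congrFun f0 i
    · exact congrFun f1 i
  refine ⟨dg M, ?_, ⟨(M : Matrix (Fin 3) (Fin 3) F).charpoly, ?_⟩, ?_⟩
  · rw [orderOf_injective dg dg_inj, hM]
  · have h3 : LinearMap.ker (Polynomial.aeval (Matrix.toLin' ((spToGL 3 F (dg M) :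
        GL (Fin 3 ⊕ Fin 3) F) : Matrix (Fin 3 ⊕ Fin 3) (Fin 3 ⊕ Fin 3) F)) (M : Matrix (Fin 3) (Fin 3) F).charpoly) =
        LinearMap.ker (LinearMap.funLeft F F (Sum.inr : Fin 3 → Fin 3 ⊕ Fin 3)) := by
      ext v
      rw [LinearMap.mem_ker, LinearMap.mem_ker]
      have h4 := aeval_dg M (M : Matrix (Fin 3) (Fin 3) F).charpoly v
      have h6 : Polynomial.aeval (Matrix.toLin' (M : Matrix (Fin 3) (Fin 3) F))
          (M : Matrix (Fin 3) (Fin 3) F).charpoly = 0 := by
        have h7 := Matrix.aeval_self_charpoly (M : Matrix (Fin 3) (Fin 3) F)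
        have h8 := Polynomial.aeval_algHom_apply ((Matrix.toLinAlgEquiv' (R := F) (n := Fin 3)).toAlgHom)
          (M : Matrix (Fin 3) (Fin 3) F) (M : Matrix (Fin 3) (Fin 3) F).charpoly
        rw [h7, map_zero] at h8
        exact h8
      rw [h6, LinearMap.zero_apply] at h4
      constructor
      · intro hv
        have h7 : Polynomial.aeval (Matrix.toLin' (dgMat M)) (M : Matrix (Fin 3) (Fin 3) F).charpoly v = 0 := hv
        rw [h4] at h7
        apply ker_zero h2 hlodd hMl hdet hfx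
        funext i
        exact congrFun h7 (Sum.inr i)
      · intro hv
        have h8 : v ∘ Sum.inr = 0 := hv
        change Polynomial.aeval (Matrix.toLin' (dgMat M)) (M : Matrix (Fin 3) (Fin 3) F).charpoly v = 0
        rw [h4, h8, map_zero]
        funext i
        rcases i with i | i <;> rfl
    rw [h3]
    have h4 := LinearMap.finrank_range_add_finrank_ker (LinearMap.funLeft F F (Sum.inr : Fin 3 → Fin 3 ⊕ Fin 3))
    rw [LinearMap.range_eq_top.2 (LinearMap.funLeft_surjective_of_injective F F _ Sum.inr_injective), finrank_top,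
      finrank_fintype_fun_eq_card, finrank_fintype_fun_eq_card, Fintype.card_fin] at h4
    have h6 : Fintype.card (Fin 3 ⊕ Fin 3) = 6 := rfl
    omega
  · intro X hX hX0
    have h3 := hl.dvd_dim hf hF (g := spToGL 3 F (dg M)) (by rw [← map_pow, ← map_pow, hMl, map_one, map_one]) hX
    rw [hfxx, inf_bot_eq, finrank_bot, Nat.sub_zero] at h3
    have h4 : finrank F X ≠ 0 := by
      rw [Ne, Submodule.finrank_eq_zero]; exact hX0
    exact Nat.le_of_dvd (by omega) h3

end exist

end Cfsg.Agent.H109.Cov
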