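import Cfsg.Agent.H109.Cov.Types
import Cfsg.Agent.H906.Cov.EKill
import Cfsg.Agent.S0245

/-!
# S2499, `PSp_6(q)`: elements outside the extension field groups; the elements of order `r`, `s p` (helper109)

* `avoid_ft` : an element with a power `y` of order prime to `r` and `r ∤ dim ker P(y)` is in no conjugate of `FT r`;
* `exists_pow_right` : a power of a product of commuting elements of coprime orders;
* `exists_a` : an element of `Sp_6(q)` of prime order `r` (exponent 6);
* `exists_b` : an element with powers of order `s` (exponent 4) and a transvection.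
-/

set_option autoImplicit false

namespace Cfsg.Agent.H109.Cov

open Cfsg Cfsg.Geo Module Cfsg.Agent.ClassicalGeometry.SympBasic
open Cfsg.Agent.H876 (spToGL)
open scoped Matrix MatrixGroups

universe u

section gen

variable {ι : Type} [Fintype ι] [DecidableEq ι] {F : Type u} [Field F]

theorem aeval_conj (g x : GL ι F) (P : Polynomial F) (v : ι → F) :
    Polynomial.aeval (Matrix.toLin' ((g * x * g⁻¹ : GL ι F) : Matrix ι ι F)) P v =
      Matrix.toLin' (g : Matrix ι ι F) (Polynomial.aeval (Matrix.toLin' (x : Matrix ι ι F)) P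
        (Matrix.toLin' ((g⁻¹ : GL ι F) : Matrix ι ι F) v)) := by
  have hgi : ∀ w, Matrix.toLin' ((g⁻¹ : GL ι F) : Matrix ι ι F) (Matrix.toLin' (g : Matrix ι ι F) w) = w := by
    intro w
    rw [Matrix.toLin'_apply, Matrix.toLin'_apply, Matrix.mulVec_mulVec, ← Units.val_mul, inv_mul_cancel, Units.val_one,
      Matrix.one_mulVec]
  have hig : ∀ w, Matrix.toLin' (g : Matrix ι ι F) (Matrix.toLin' ((g⁻¹ : GL ι F) : Matrix ι ι F) w) = w := by
    intro w
    rw [Matrix.toLin'_apply, Matrix.toLin'_apply, Matrix.mulVec_mulVec, ← Units.val_mul, mul_inv_cancel, Units.val_one,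
      Matrix.one_mulVec]
  have h1 : ∀ w, Matrix.toLin' ((g * x * g⁻¹ : GL ι F) : Matrix ι ι F) w =
      Matrix.toLin' (g : Matrix ι ι F) (Matrix.toLin' (x : Matrix ι ι F) (Matrix.toLin' ((g⁻¹ : GL ι F) : Matrix ι ι F) w)) := by
    intro w
    simp only [Matrix.toLin'_apply, Matrix.mulVec_mulVec, Units.val_mul, Matrix.mul_assoc]
  induction P using Polynomial.induction_on' generalizing v with
  | add P Q hP hQ => rw [map_add, map_add, LinearMap.add_apply, LinearMap.add_apply, hP, hQ, map_add]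
  | monomial n a =>
    rw [Polynomial.aeval_monomial, Polynomial.aeval_monomial]
    change a • ((Matrix.toLin' ((g * x * g⁻¹ : GL ι F) : Matrix ι ι F)) ^ n) v =
      Matrix.toLin' (g : Matrix ι ι F) (a • ((Matrix.toLin' (x : Matrix ι ι F)) ^ n)
        (Matrix.toLin' ((g⁻¹ : GL ι F) : Matrix ι ι F) v))
    rw [map_smul]
    congr 1
    induction n with
    | zero => rw [pow_zero, pow_zero]; exact (hig v).symm
    | succ n ih =>
      rw [pow_succ', pow_succ', Module.End.mul_apply, Module.End.mul_apply, ih, h1, hgi]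

theorem finrank_ker_conj (g x : GL ι F) (P : Polynomial F) :
    finrank F (LinearMap.ker (Polynomial.aeval (Matrix.toLin' ((g * x * g⁻¹ : GL ι F) : Matrix ι ι F)) P)) =
      finrank F (LinearMap.ker (Polynomial.aeval (Matrix.toLin' (x : Matrix ι ι F)) P)) := by
  rw [← finrank_comap g⁻¹ (LinearMap.ker (Polynomial.aeval (Matrix.toLin' (x : Matrix ι ι F)) P))]
  have key : LinearMap.ker (Polynomial.aeval (Matrix.toLin' ((g * x * g⁻¹ : GL ι F) : Matrix ι ι F)) P) =
      Submodule.comap (Matrix.toLin' ((g⁻¹ : GL ι F) : Matrix ι ι F))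
        (LinearMap.ker (Polynomial.aeval (Matrix.toLin' (x : Matrix ι ι F)) P)) := ?_
  · rw [key]
  ext v
  rw [LinearMap.mem_ker, Submodule.mem_comap, LinearMap.mem_ker, aeval_conj]
  constructor
  · intro h
    have h1 := congrArg (Matrix.toLin' ((g⁻¹ : GL ι F) : Matrix ι ι F)) h
    rw [map_zero, Matrix.toLin'_apply, Matrix.toLin'_apply, Matrix.mulVec_mulVec, ← Units.val_mul, inv_mul_cancel,
      Units.val_one, Matrix.one_mulVec] at h1
    exact h1
  · intro h
    rw [h, map_zero]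

end gen

/-- **elements outside the extension field groups** -/
theorem avoid_ft {F : Type u} [Field F] [Finite F] {r : ℕ} (hr : r.Prime) {x y : GL (Fin 3 ⊕ Fin 3) F} {n : ℕ}
    (hy : x ^ n = y) (hco : Nat.Coprime (orderOf y) r) {P : Polynomial F}
    (hP : ¬ r ∣ finrank F (LinearMap.ker (Polynomial.aeval (Matrix.toLin' (y : Matrix (Fin 3 ⊕ Fin 3) (Fin 3 ⊕ Fin 3) F)) P)))
    {H : Subgroup (GL (Fin 3 ⊕ Fin 3) F)} (hH : FT r H) (g : GL (Fin 3 ⊕ Fin 3) F) : g * x * g⁻¹ ∉ H := by
  intro hg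
  obtain ⟨K, hK, hle⟩ := hH
  have h1 : g * y * g⁻¹ ∈ subalgebraNormalizer K := by
    rw [← hy, ← conj_pow]
    exact Subgroup.pow_mem _ (hle hg) n
  have h2 := H906.Cov.ext_dvd hr hK h1 (by
    have : orderOf (g * y * g⁻¹) = orderOf y := by
      have h3 : g * y * g⁻¹ = (MulAut.conj g).toMonoidHom y := rfl
      rw [h3]
      exact orderOf_injective _ (MulAut.conj g).injective y
    rw [this]
    exact hco) P
  rw [finrank_ker_conj] at h2
  exact hP h2

theorem exists_pow_right {G : Type*} [Group G] {a b : G} (hab : Commute a b) {m n : ℕ} (hm : a ^ m = 1) (hn : b ^ n = 1)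
    (hco : Nat.Coprime m n) : ∃ k, (a * b) ^ k = b := by
  obtain ⟨k, h1, h2⟩ := Nat.chineseRemainder hco 0 1
  refine ⟨k, ?_⟩
  rw [hab.mul_pow]
  have h3 : a ^ k = 1 := by
    obtain ⟨c, hc⟩ := (Nat.modEq_zero_iff_dvd.1 h1)
    rw [hc, pow_mul, hm, one_pow]
  have h4 : b ^ k = b := by
    conv_rhs => rw [← pow_one b]
    rw [pow_eq_pow_iff_modEq]
    exact h2.of_dvd (orderOf_dvd_of_pow_eq_one hn)
  rw [h3, h4, one_mul]

theorem exists_pow_left {G : Type*} [Group G] {a b : G} (hab : Commute a b) {m n : ℕ} (hm : a ^ m = 1) (hn : b ^ n = 1)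
    (hco : Nat.Coprime m n) : ∃ k, (a * b) ^ k = a := by
  rw [hab.eq]
  exact exists_pow_right hab.symm hn hm hco.symm

variable {F : Type u} [Field F] [Fintype F] {p f : ℕ}

/-- elements of prime order `l` (exponent 4 or 6) in `Sp_6(q)` -/
theorem PP.exists_sp {k l : ℕ} (h : PP p f k l) (hf : 1 ≤ f) (hF : Nat.card F = p ^ f) (hk : k = 4 ∨ k = 6) :
    ∃ x : Matrix.symplecticGroup (Fin 3) F, orderOf x = l := by
  have := Fact.mk h.prime
  apply exists_prime_orderOf_dvd_card'
  rw [S0245.result (q := p ^ f) (by rw [← Nat.card_eq_fintype_card]; exact hF) 3]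
  apply Dvd.dvd.mul_left
  rw [Finset.prod_range_succ, Finset.prod_range_succ, Finset.prod_range_one]
  rcases hk with rfl | rfl
  · apply Dvd.dvd.mul_right
    apply Dvd.dvd.mul_left
    rw [h.pow_iff hf]
  · apply Dvd.dvd.mul_left
    rw [h.pow_iff hf]

theorem spToGL_inj {m : ℕ} : Function.Injective (spToGL m F) := by
  intro a b h
  apply Subtype.ext
  exact congrArg (fun g : GL (Fin m ⊕ Fin m) F => (g : Matrix (Fin m ⊕ Fin m) (Fin m ⊕ Fin m) F)) h

omit [Fintype F] in
/-- powers of a transvection -/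
theorem transv_pow (v : Fin 3 ⊕ Fin 3 → F) (n : ℕ) : (transv v (1 : F)) ^ n = transv v (n : F) := by
  induction n with
  | zero =>
    apply Subtype.ext
    rw [pow_zero, coe_transv, Nat.cast_zero, sympTransvection_zero]
    rfl
  | succ n ih =>
    apply Subtype.ext
    rw [pow_succ, ih, coe_transv]
    have := sympTransvection_mul v (n : F) 1
    rw [Nat.cast_succ, ← this]
    rfl

/-- the fixed space of a transvection -/
theorem finrank_ker_transv {v : Fin 3 ⊕ Fin 3 → F} (hv : v ≠ 0) :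
    finrank F (LinearMap.ker (Polynomial.aeval (Matrix.toLin' ((spToGL 3 F (transv v (1 : F)) :
      GL (Fin 3 ⊕ Fin 3) F) : Matrix (Fin 3 ⊕ Fin 3) (Fin 3 ⊕ Fin 3) F)) (Polynomial.X - 1 : Polynomial F))) = 5 := by
  have h1 : LinearMap.ker (Polynomial.aeval (Matrix.toLin' ((spToGL 3 F (transv v (1 : F)) :
      GL (Fin 3 ⊕ Fin 3) F) : Matrix (Fin 3 ⊕ Fin 3) (Fin 3 ⊕ Fin 3) F)) (Polynomial.X - 1 : Polynomial F)) =
      LinearMap.ker (sympBilin 3 F v) := by
    ext x
    rw [LinearMap.mem_ker, LinearMap.mem_ker, map_sub, Polynomial.aeval_X, map_one, LinearMap.sub_apply,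
      Matrix.toLin'_apply, sympBilin_apply]
    change sympTransvection 3 v 1 *ᵥ x - x = 0 ↔ _
    rw [sympTransvection_mulVec, add_sub_cancel_left, one_mul, smul_eq_zero, or_iff_left hv, sympForm_swap x v,
      neg_eq_zero]
  rw [h1]
  have h2 : sympBilin 3 F v ≠ 0 := by
    intro h
    apply hv
    exact eq_zero_of_forall_sympForm_right fun x => LinearMap.congr_fun h x
  have h3 := Module.Dual.finrank_ker_add_one_of_ne_zero (f := sympBilin 3 F v) h2
  rw [finrank_fintype_fun_eq_card] at h3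
  have h4 : Fintype.card (Fin 3 ⊕ Fin 3) = 6 := rfl
  omega

/-- **the element `b`**: powers of order `s` and a transvection -/
theorem exists_b (hp : p.Prime) (hf : 1 ≤ f) (hF : Nat.card F = p ^ f) {s : ℕ} (hs : PP p f 4 s) :
    ∃ b : Matrix.symplecticGroup (Fin 3) F, (∃ k, orderOf (b ^ k) = s) ∧
      ∃ (k : ℕ) (t : Matrix.symplecticGroup (Fin 3) F), b ^ k = t ∧ orderOf t = p ∧
        finrank F (LinearMap.ker (Polynomial.aeval (Matrix.toLin' ((spToGL 3 F t : GL (Fin 3 ⊕ Fin 3) F) :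
          Matrix (Fin 3 ⊕ Fin 3) (Fin 3 ⊕ Fin 3) F)) (Polynomial.X - 1 : Polynomial F))) = 5 := by
  obtain ⟨x, hx⟩ := hs.exists_sp (F := F) hf hF (Or.inl rfl)
  have hxs : x ^ s = 1 := by rw [← hx, pow_orderOf_eq_one]
  have hx1 : x ≠ 1 := by
    rintro rfl
    rw [orderOf_one] at hx
    exact hs.prime.one_lt.ne hx
  have hfx : finrank F (fx (spToGL 3 F x)) = 2 := by
    apply four_fx hs hf hF
    · rw [← map_pow, hxs, map_one]
    · intro h
      apply hx1
      exact spToGL_inj (h.trans (map_one _).symm)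
  have hne : fx (spToGL 3 F x) ≠ ⊥ := by
    intro h
    rw [h, finrank_bot] at hfx
    omega
  obtain ⟨v, hv, hv0⟩ := (Submodule.ne_bot_iff _).1 hne
  have hcomm : Commute x (transv v (1 : F)) := by
    apply Subtype.ext
    change (x : Matrix (Fin 3 ⊕ Fin 3) (Fin 3 ⊕ Fin 3) F) * sympTransvection 3 v 1 =
      sympTransvection 3 v 1 * (x : Matrix (Fin 3 ⊕ Fin 3) (Fin 3 ⊕ Fin 3) F)
    rw [mul_sympTransvection x.2]
    have h1 : (x : Matrix (Fin 3 ⊕ Fin 3) (Fin 3 ⊕ Fin 3) F) *ᵥ v = v := hv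
    rw [h1]
  have hch : (p : F) = 0 := by
    obtain ⟨c, hc⟩ := CharP.exists F
    obtain ⟨k, hcp, hk⟩ := FiniteField.card F c
    have h3 : c = p := char_eq hp hF hcp
    rw [← h3]
    exact CharP.cast_eq_zero F c
  have ht : (transv v (1 : F)) ^ p = 1 := by
    rw [transv_pow, hch]
    apply Subtype.ext
    rw [coe_transv, sympTransvection_zero]
    rfl
  have hto : orderOf (transv v (1 : F)) = p := by
    have := Fact.mk hp
    apply orderOf_eq_prime ht
    intro h
    have h2 := finrank_ker_transv (F := F) hv0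
    rw [h, map_one, Units.val_one, Matrix.toLin'_one, map_sub, Polynomial.aeval_X, map_one] at h2
    have h3 : (LinearMap.id : (Fin 3 ⊕ Fin 3 → F) →ₗ[F] (Fin 3 ⊕ Fin 3 → F)) - 1 = 0 := sub_self _
    rw [h3, LinearMap.ker_zero, finrank_top, finrank_fintype_fun_eq_card] at h2
    have h4 : Fintype.card (Fin 3 ⊕ Fin 3) = 6 := rfl
    omega
  have hco : Nat.Coprime s p := (Nat.coprime_primes hs.prime hp).2 (hs.ne_char hp)
  obtain ⟨k1, hk1⟩ := exists_pow_left hcomm hxs ht hco
  obtain ⟨k2, hk2⟩ := exists_pow_right hcomm hxs ht hco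
  exact ⟨x * transv v 1, ⟨k1, by rw [hk1, hx]⟩, k2, _, hk2, hto, finrank_ker_transv hv0⟩

end Cfsg.Agent.H109.Cov
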