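import Cfsg.Agent.H109.Cov.Num
import Cfsg.Agent.H931.SpProper

/-!
# S2499, `PSp_6(q)`: fixed vectors and invariant subspaces (helper109)

* `dvd_dim` : `g` of prime order `l`, `l` primitive for `|F| ^ k - 1`: `k ∣ dim X - dim (X ∩ fix g)` for invariant `X`;
* `fx_nd`   : the fixed space of an isometry of order prime to the characteristic is non-degenerate;
* `finrank_le_of_ts` : totally singular subspaces have dimension at most `m`.
-/

set_option autoImplicit false

namespace Cfsg.Agent.H109.Cov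

open Cfsg Cfsg.Geo Module Cfsg.Agent.ClassicalGeometry.SympBasic
open scoped Matrix MatrixGroups

section gen

variable {ι : Type} [Fintype ι] [DecidableEq ι] {F : Type*} [Field F]

/-- the space of fixed vectors -/
def fx (g : GL ι F) : Submodule F (ι → F) where
  carrier := {v | (g : Matrix ι ι F) *ᵥ v = v}
  add_mem' {a b} ha hb := by
    change (g : Matrix ι ι F) *ᵥ (a + b) = a + b
    rw [Matrix.mulVec_add]
    exact congrArg₂ _ ha hb
  zero_mem' := Matrix.mulVec_zero _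
  smul_mem' c v hv := by
    change (g : Matrix ι ι F) *ᵥ (c • v) = c • v
    rw [Matrix.mulVec_smul]
    exact congrArg _ hv

theorem mem_fx {g : GL ι F} {v : ι → F} : v ∈ fx g ↔ (g : Matrix ι ι F) *ᵥ v = v := Iff.rfl

/-- `X` is invariant under `g` -/
def Inv (g : GL ι F) (X : Submodule F (ι → F)) : Prop := ∀ v ∈ X, (g : Matrix ι ι F) *ᵥ v ∈ X

theorem inv_of_mem {g : GL ι F} {W : Submodule F (ι → F)} (hg : g ∈ subspaceStabilizer W) : Inv g W :=
  fun v hv => (hg v).1 hv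

theorem pow_mulVec_fx {g : GL ι F} {v : ι → F} (hv : v ∈ fx g) (n : ℕ) : v ∈ fx (g ^ n) := by
  induction n with
  | zero => rw [pow_zero, mem_fx, Units.val_one, Matrix.one_mulVec]
  | succ n ih =>
    rw [mem_fx] at hv ih ⊢
    rw [pow_succ, Units.val_mul, ← Matrix.mulVec_mulVec, hv, ih]

theorem Inv.pow {g : GL ι F} {X : Submodule F (ι → F)} (h : Inv g X) (n : ℕ) : Inv (g ^ n) X := by
  induction n with
  | zero => intro v hv; rwa [pow_zero, Units.val_one, Matrix.one_mulVec]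
  | succ n ih =>
    intro v hv
    rw [pow_succ, Units.val_mul, ← Matrix.mulVec_mulVec]
    exact ih _ (h v hv)

theorem eq_one_of_fx {g : GL ι F} (h : fx g = ⊤) : g = 1 := by
  apply Units.ext
  apply Matrix.toLin'.injective
  apply LinearMap.ext
  intro v
  have : v ∈ fx g := by rw [h]; trivial
  rw [Matrix.toLin'_apply, Units.val_one, Matrix.toLin'_one]
  exact this

/-- the conjugate subspace `g⁻¹ W` -/
theorem inv_conj {g x : GL ι F} {W : Submodule F (ι → F)} (h : Inv (g * x * g⁻¹) W) :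
    Inv x (W.comap (Matrix.toLin' (g : Matrix ι ι F))) := by
  intro v hv
  rw [Submodule.mem_comap, Matrix.toLin'_apply] at hv ⊢
  have h1 := h _ hv
  rw [Units.val_mul, Units.val_mul, ← Matrix.mulVec_mulVec, ← Matrix.mulVec_mulVec, Matrix.mulVec_mulVec v,
    ← Units.val_mul, inv_mul_cancel, Units.val_one, Matrix.one_mulVec] at h1
  exact h1

theorem finrank_comap (g : GL ι F) (W : Submodule F (ι → F)) :
    finrank F (W.comap (Matrix.toLin' (g : Matrix ι ι F))) = finrank F W := by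
  let e : (ι → F) ≃ₗ[F] (ι → F) := LinearEquiv.ofLinear (Matrix.toLin' (g : Matrix ι ι F))
    (Matrix.toLin' ((g⁻¹ : GL ι F) : Matrix ι ι F))
    (by rw [← Matrix.toLin'_mul, ← Units.val_mul, mul_inv_cancel, Units.val_one, Matrix.toLin'_one])
    (by rw [← Matrix.toLin'_mul, ← Units.val_mul, inv_mul_cancel, Units.val_one, Matrix.toLin'_one])
  have h1 : W.comap (Matrix.toLin' (g : Matrix ι ι F)) = W.map (e.symm : (ι → F) →ₗ[F] (ι → F)) := by
    have h2 : W.comap (e : (ι → F) →ₗ[F] (ι → F)) = W.map (e.symm : (ι → F) →ₗ[F] (ι → F)) :=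
      Submodule.comap_equiv_eq_map_symm e W
    have h3 : (e : (ι → F) →ₗ[F] (ι → F)) = Matrix.toLin' (g : Matrix ι ι F) := LinearMap.ext fun v => rfl
    rw [← h3]
    exact h2
  rw [h1]
  exact LinearEquiv.finrank_map_eq e.symm W

variable [Finite F]

theorem dvd_dim {k l : ℕ} (hl : l.Prime) (hF : ¬ l ∣ Nat.card F) (hk : ∀ i, l ∣ Nat.card F ^ i - 1 → k ∣ i)
    {g : GL ι F} (hg : g ^ l = 1) {X : Submodule F (ι → F)} (hX : Inv g X) :
    k ∣ finrank F X - finrank F (X ⊓ fx g : Submodule F (ι → F)) := by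
  classical
  have := Fact.mk hl
  have : Fintype F := Fintype.ofFinite F
  have : Fintype X := Fintype.ofFinite X
  let f : Function.End X := fun v => ⟨(g : Matrix ι ι F) *ᵥ v, hX v v.2⟩
  have hf : ∀ n : ℕ, ∀ v : X, ((f ^ n) v : ι → F) = ((g ^ n : GL ι F) : Matrix ι ι F) *ᵥ (v : ι → F) := by
    intro n
    induction n with
    | zero => intro v; rw [pow_zero, pow_zero, Units.val_one, Matrix.one_mulVec]; rfl
    | succ n ih =>
      intro v
      rw [pow_succ, pow_succ, Units.val_mul, ← Matrix.mulVec_mulVec]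
      change ((f ^ n) (f v) : ι → F) = _
      rw [ih]
  have hfl : f ^ l ^ 1 = 1 := by
    rw [pow_one]
    funext v
    apply Subtype.ext
    rw [hf, hg, Units.val_one, Matrix.one_mulVec]
    rfl
  have h1 := Equiv.Perm.card_fixedPoints_modEq (p := l) (n := 1) (f := f) hfl
  have h2 : Fintype.card (Function.fixedPoints f) = Nat.card (X ⊓ fx g : Submodule F (ι → F)) := by
    rw [← Nat.card_eq_fintype_card]
    apply Nat.card_congr
    exact
      { toFun := fun v => ⟨v.1.1, v.1.2, congrArg Subtype.val v.2⟩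
        invFun := fun v => ⟨⟨v.1, v.2.1⟩, Subtype.ext v.2.2⟩
        left_inv := fun v => rfl
        right_inv := fun v => rfl }
  rw [h2, ← Nat.card_eq_fintype_card, Module.natCard_eq_pow_finrank (K := F) (V := X),
    Module.natCard_eq_pow_finrank (K := F) (V := (X ⊓ fx g : Submodule F (ι → F)))] at h1
  have h3 : finrank F (X ⊓ fx g : Submodule F (ι → F)) ≤ finrank F X := Submodule.finrank_mono inf_le_left
  apply hk
  have h4 : l ∣ Nat.card F ^ finrank F X - Nat.card F ^ finrank F (X ⊓ fx g : Submodule F (ι → F)) :=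
    (Nat.modEq_iff_dvd' (Nat.pow_le_pow_right Nat.card_pos h3)).1 h1.symm
  have h5 : Nat.card F ^ finrank F X - Nat.card F ^ finrank F (X ⊓ fx g : Submodule F (ι → F)) =
      Nat.card F ^ finrank F (X ⊓ fx g : Submodule F (ι → F)) *
        (Nat.card F ^ (finrank F X - finrank F (X ⊓ fx g : Submodule F (ι → F))) - 1) := by
    rw [Nat.mul_sub, mul_one, ← pow_add, Nat.add_sub_cancel' h3]
  rw [h5] at h4
  rcases hl.dvd_mul.1 h4 with h6 | h6
  · exact absurd (hl.dvd_of_dvd_pow h6) hF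
  · exact h6

theorem PP.dvd_dim {p f k l : ℕ} (h : PP p f k l) (hf : 1 ≤ f) (hF : Nat.card F = p ^ f) {g : GL ι F} (hg : g ^ l = 1)
    {X : Submodule F (ι → F)} (hX : Inv g X) :
    k ∣ finrank F X - finrank F (X ⊓ fx g : Submodule F (ι → F)) :=
  Cov.dvd_dim h.prime (by rw [hF]; exact h.not_dvd_card) (fun i hi => by rwa [hF, h.pow_iff hf] at hi) hg hX

/-- the dimension of the fixed space -/
theorem PP.dvd_fx {p f k l : ℕ} (h : PP p f k l) (hf : 1 ≤ f) (hF : Nat.card F = p ^ f) {g : GL ι F} (hg : g ^ l = 1) :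
    k ∣ Fintype.card ι - finrank F (fx g) := by
  have h1 := h.dvd_dim hf hF hg (X := ⊤) (fun _ _ => trivial)
  rwa [finrank_top, finrank_fintype_fun_eq_card, top_inf_eq] at h1

omit [Finite F] in
theorem finrank_fx_lt {g : GL ι F} (hg : g ≠ 1) : finrank F (fx g) < Fintype.card ι := by
  have h1 : fx g < ⊤ := lt_top_iff_ne_top.2 fun h => hg (eq_one_of_fx h)
  have h2 := Submodule.finrank_lt_finrank_of_lt h1
  rwa [finrank_top, finrank_fintype_fun_eq_card] at h2

end gen

section symp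

variable {F : Type*} [Field F] {m : ℕ}

theorem finrank_le_of_ts {W : Submodule F (Fin m ⊕ Fin m → F)} (hW : IsTotallySingularFor (sympForm m F) W) :
    finrank F W ≤ m := by
  let B : LinearMap.BilinForm F (Fin m ⊕ Fin m → F) := sympBilin m F
  have h1 : W ≤ B.orthogonal W := by
    intro w hw u hu
    exact hW u hu w hw
  have h2 := LinearMap.BilinForm.finrank_orthogonal (B := B) (sympBilin_nondegenerate (m := m) (F := F)) W
  have h3 := Submodule.finrank_mono h1
  have h4 : finrank F W ≤ finrank F (Fin m ⊕ Fin m → F) := Submodule.finrank_le W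
  rw [finrank_fintype_fun_eq_card, Fintype.card_sum, Fintype.card_fin] at h2 h4
  omega

theorem sympForm_sum_left {ι : Type*} (s : Finset ι) (a : ι → Fin m ⊕ Fin m → F) (w : Fin m ⊕ Fin m → F) :
    sympForm m F (∑ i ∈ s, a i) w = ∑ i ∈ s, sympForm m F (a i) w := by
  classical
  induction s using Finset.induction_on with
  | empty => simp
  | insert i s hi ih => rw [Finset.sum_insert hi, Finset.sum_insert hi, sympForm_add_left, ih]

theorem form_eq {g : GL (Fin m ⊕ Fin m) F} (hg : g ∈ spGL m F) (u v : Fin m ⊕ Fin m → F) :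
    sympForm m F ((g : Matrix _ _ F) *ᵥ u) ((g : Matrix _ _ F) *ᵥ v) = sympForm m F u v :=
  H931.mem_spGL_iff.1 hg u v

/-- the fixed space of an isometry of order prime to the characteristic is non-degenerate -/
theorem fx_nd {g : GL (Fin m ⊕ Fin m) F} (hg : g ∈ spGL m F) {l : ℕ} (hl : g ^ l = 1) (hl0 : (l : F) ≠ 0)
    {w : Fin m ⊕ Fin m → F} (hw : w ∈ fx g) (hw0 : w ≠ 0) : ∃ x ∈ fx g, sympForm m F x w ≠ 0 := by
  obtain ⟨v, hv⟩ : ∃ v, sympForm m F v w ≠ 0 := by
    by_contra hcon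
    push Not at hcon
    exact hw0 (eq_zero_of_forall_sympForm_left hcon)
  refine ⟨∑ i ∈ Finset.range l, ((g ^ i : GL (Fin m ⊕ Fin m) F) : Matrix (Fin m ⊕ Fin m) (Fin m ⊕ Fin m) F) *ᵥ v, ?_, ?_⟩
  · rw [mem_fx, Matrix.mulVec_sum]
    have h1 : ∀ i, (g : Matrix (Fin m ⊕ Fin m) (Fin m ⊕ Fin m) F) *ᵥ
        (((g ^ i : GL (Fin m ⊕ Fin m) F) : Matrix (Fin m ⊕ Fin m) (Fin m ⊕ Fin m) F) *ᵥ v) =
        ((g ^ (i + 1) : GL (Fin m ⊕ Fin m) F) : Matrix (Fin m ⊕ Fin m) (Fin m ⊕ Fin m) F) *ᵥ v := by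
      intro i
      rw [pow_succ', Units.val_mul, Matrix.mulVec_mulVec]
    simp only [h1]
    have h2 := Finset.sum_range_succ' (fun i => ((g ^ i : GL (Fin m ⊕ Fin m) F) : Matrix (Fin m ⊕ Fin m) (Fin m ⊕ Fin m) F) *ᵥ v) l
    have h3 := Finset.sum_range_succ (fun i => ((g ^ i : GL (Fin m ⊕ Fin m) F) : Matrix (Fin m ⊕ Fin m) (Fin m ⊕ Fin m) F) *ᵥ v) l
    rw [h2, hl, pow_zero] at h3
    exact add_right_cancel h3
  · rw [sympForm_sum_left]
    have h1 : ∀ i ∈ Finset.range l, sympForm m F (((g ^ i : GL (Fin m ⊕ Fin m) F) : Matrix (Fin m ⊕ Fin m) (Fin m ⊕ Fin m) F) *ᵥ v) w =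
        sympForm m F v w := by
      intro i _
      have h2 := pow_mulVec_fx hw i
      rw [mem_fx] at h2
      conv_lhs => rw [← h2]
      exact form_eq ((spGL m F).pow_mem hg i) v w
    rw [Finset.sum_congr rfl h1, Finset.sum_const, Finset.card_range, nsmul_eq_mul]
    exact mul_ne_zero hl0 hv

/-- the comap of a non-degenerate subspace under an isometry is non-degenerate -/
theorem nd_comap {g : GL (Fin m ⊕ Fin m) F} (hg : g ∈ spGL m F) {W : Submodule F (Fin m ⊕ Fin m → F)}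
    (hW : IsNondegenerateOn (sympForm m F) W) :
    IsNondegenerateOn (sympForm m F) (W.comap (Matrix.toLin' (g : Matrix _ _ F))) := by
  have hgi : ∀ x : Fin m ⊕ Fin m → F, (g : Matrix (Fin m ⊕ Fin m) (Fin m ⊕ Fin m) F) *ᵥ
      (((g⁻¹ : GL (Fin m ⊕ Fin m) F) : Matrix (Fin m ⊕ Fin m) (Fin m ⊕ Fin m) F) *ᵥ x) = x := by
    intro x
    rw [Matrix.mulVec_mulVec, ← Units.val_mul, mul_inv_cancel, Units.val_one, Matrix.one_mulVec]
  intro w hw hw0
  rw [Submodule.mem_comap, Matrix.toLin'_apply] at hw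
  have h1 : (g : Matrix (Fin m ⊕ Fin m) (Fin m ⊕ Fin m) F) *ᵥ w ≠ 0 := by
    intro h
    apply hw0
    have h2 : ((g⁻¹ : GL (Fin m ⊕ Fin m) F) : Matrix (Fin m ⊕ Fin m) (Fin m ⊕ Fin m) F) *ᵥ ((g : Matrix (Fin m ⊕ Fin m) (Fin m ⊕ Fin m) F) *ᵥ w) = 0 := by
      rw [h, Matrix.mulVec_zero]
    rwa [Matrix.mulVec_mulVec, ← Units.val_mul, inv_mul_cancel, Units.val_one, Matrix.one_mulVec] at h2
  obtain ⟨⟨x, hx, hx1⟩, y, hy, hy1⟩ := hW _ hw h1
  refine ⟨⟨((g⁻¹ : GL (Fin m ⊕ Fin m) F) : Matrix (Fin m ⊕ Fin m) (Fin m ⊕ Fin m) F) *ᵥ x, ?_, ?_⟩,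
    ((g⁻¹ : GL (Fin m ⊕ Fin m) F) : Matrix (Fin m ⊕ Fin m) (Fin m ⊕ Fin m) F) *ᵥ y, ?_, ?_⟩
  · rw [Submodule.mem_comap, Matrix.toLin'_apply, hgi]; exact hx
  · rwa [← form_eq hg, hgi]
  · rw [Submodule.mem_comap, Matrix.toLin'_apply, hgi]; exact hy
  · rwa [← form_eq hg, hgi]

end symp

end Cfsg.Agent.H109.Cov
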