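import Cfsg.Agent.H109.Cov.ElB
import Cfsg.Agent.H109.Cov.ElC
import Cfsg.Agent.H278.Cov.Defs

/-!
# S2499: `NoTwo (PSp_6(q))` for `q` odd, prime to 3 (helper109)

`noTwo_psp3` : `PSp_6(q)`, `q` a power of a prime `p ≥ 5`, is not the union of the conjugates of two proper subgroups
(hypothesis: the conclusion of S5806 for the residual maximal subgroups of `Sp_6(q)`).
-/

set_option autoImplicit false

namespace Cfsg.Agent.H109.Cov

open Cfsg Cfsg.Geo Module Cfsg.Agent.ClassicalGeometry.SympBasic Cfsg.Agent.H278.Cov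
open Cfsg.Agent.H876 (spToGL)
open scoped Matrix MatrixGroups

universe u

section bridge

variable {F : Type u} [Field F] {m : ℕ}

theorem isMaximalIn_map {H : Subgroup (Matrix.symplecticGroup (Fin m) F)} (hH : IsCoatom H) :
    IsMaximalIn (spGL m F) (H.map (spToGL m F)) := by
  have hle : ∀ L : Subgroup (Matrix.symplecticGroup (Fin m) F), L.map (spToGL m F) ≤ spGL m F := by
    rintro L _ ⟨x, -, rfl⟩
    exact H931.spToGL_mem x
  have hinj : Function.Injective (spToGL m F) := by
    intro a b h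
    apply Subtype.ext
    exact congrArg (fun g : GL (Fin m ⊕ Fin m) F => (g : Matrix (Fin m ⊕ Fin m) (Fin m ⊕ Fin m) F)) h
  constructor
  · refine lt_of_le_of_ne (hle H) ?_
    intro h
    apply hH.1
    rw [← H931.map_spToGL_top] at h
    exact Subgroup.map_injective hinj h
  · intro M h1 h2
    have h3 : (M.comap (spToGL m F)).map (spToGL m F) = M := by
      apply le_antisymm (Subgroup.map_comap_le _ _)
      intro g hg
      obtain ⟨A, rfl⟩ := H931.exists_spToGL (h2 hg)
      exact ⟨A, hg, rfl⟩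
    have h4 : H ≤ M.comap (spToGL m F) := Subgroup.map_le_iff_le_comap.1 h1
    rcases hH.le_iff.1 h4 with h5 | h5
    · right
      rw [← h3, h5, H931.map_spToGL_top]
    · left
      rw [← h3, h5]

end bridge

variable {F : Type u} [Field F] [Fintype F] {p f : ℕ}

theorem card_map (H : Subgroup (Matrix.symplecticGroup (Fin 3) F)) :
    Nat.card (H.map (spToGL 3 F)) = Nat.card H :=
  (Nat.card_congr (H.equivMapOfInjective _ spToGL_inj).toEquiv).symm

theorem map_conj_mem {H : Subgroup (Matrix.symplecticGroup (Fin 3) F)} {g x : Matrix.symplecticGroup (Fin 3) F}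
    (h : g * x * g⁻¹ ∈ H) : spToGL 3 F g * spToGL 3 F x * (spToGL 3 F g)⁻¹ ∈ H.map (spToGL 3 F) :=
  ⟨g * x * g⁻¹, h, by rw [map_mul, map_mul, map_inv]⟩

theorem dvd_card_of_conj {G : Type*} [Group G] [Finite G] {H : Subgroup G} {g x : G} (h : g * x * g⁻¹ ∈ H) :
    orderOf x ∣ Nat.card H := by
  have h1 : orderOf (g * x * g⁻¹) = orderOf x := by
    have h3 : g * x * g⁻¹ = (MulAut.conj g).toMonoidHom x := rfl
    rw [h3]
    exact orderOf_injective _ (MulAut.conj g).injective x
  rw [← h1, ← Subgroup.orderOf_mk _ h]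
  exact orderOf_dvd_natCard _

theorem noTwo_sp3 (h06 : ∀ H : Subgroup (GL (Fin 3 ⊕ Fin 3) F), IsMaximalIn (spGL 3 F) H →
    InSymplecticResidualClass H → L06 H) (hp : p.Prime) (h5 : 5 ≤ p) (hf : 1 ≤ f) (hF : Nat.card F = p ^ f) :
    NoTwo (Matrix.symplecticGroup (Fin 3) F) := by
  classical
  have hfin : Finite (Matrix.symplecticGroup (Fin 3) F) := inferInstance
  obtain ⟨r, hr⟩ := exists_pp (p := p) (f := f) (by omega) hf (k := 6) (by norm_num)
  obtain ⟨l, hl⟩ := exists_pp (p := p) (f := f) (by omega) hf (k := 3) (by norm_num)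
  obtain ⟨s, hs⟩ := exists_pp (p := p) (f := f) (by omega) hf (k := 4) (by norm_num)
  obtain ⟨a, ha⟩ := hr.exists_sp (F := F) hf hF (Or.inr rfl)
  obtain ⟨b, ⟨k1, hk1⟩, k2, t, hk2, hto, htk⟩ := exists_b (F := F) hp hf hF hs
  obtain ⟨z, ⟨k3, u, hk3, huo, huk⟩, hz⟩ := exists_z (F := F) hp h5 hf hF
  obtain ⟨c, hco, ⟨P, hP⟩, hc⟩ := exists_c (F := F) hp h5 hf hF hl
  have hp2 : Nat.Coprime p 2 := (Nat.coprime_primes hp Nat.prime_two).2 (by omega)
  have hp3 : Nat.Coprime p 3 := (Nat.coprime_primes hp Nat.prime_three).2 (by omega)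
  have hl3 := hl.lt hf (by norm_num)
  have hl2 : Nat.Coprime l 2 := (Nat.coprime_primes hl.prime Nat.prime_two).2 (by omega)
  have hord : ∀ x : Matrix.symplecticGroup (Fin 3) F, orderOf (spToGL 3 F x) = orderOf x :=
    fun x => orderOf_injective _ spToGL_inj x
  -- `b` is not in `FT 2`
  have hbFT : ∀ (M : Subgroup (GL (Fin 3 ⊕ Fin 3) F)), FT 2 M → ∀ g : Matrix.symplecticGroup (Fin 3) F,
      spToGL 3 F g * spToGL 3 F b * (spToGL 3 F g)⁻¹ ∉ M := by
    intro M hM g
    refine avoid_ft Nat.prime_two (y := spToGL 3 F t) (n := k2) (by rw [← map_pow, hk2]) (by rw [hord, hto]; exact hp2)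
      (P := Polynomial.X - 1) ?_ hM _
    rw [htk]
    norm_num
  -- the overgroups of `b`
  have hb : ∀ (K : Subgroup (Matrix.symplecticGroup (Fin 3) F)), IsCoatom K →
      ∀ g, g * b * g⁻¹ ∈ K → Low (K.map (spToGL 3 F)) := by
    intro K hK g hg
    have hmax := isMaximalIn_map hK
    have h1 : s ∣ Nat.card (K.map (spToGL 3 F)) := by
      rw [card_map, ← hk1]
      apply (dvd_card_of_conj (g := g) (H := K))
      rw [← conj_pow]
      exact K.pow_mem hg k1
    have h2 : p ∣ Nat.card (K.map (spToGL 3 F)) := by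
      rw [card_map, ← hto, ← hk2]
      apply (dvd_card_of_conj (g := g) (H := K))
      rw [← conj_pow]
      exact K.pow_mem hg k2
    rcases over_four hp h5 hf hF hs hmax (h06 _ hmax) h1 h2 with h | h
    · exact h
    · exact absurd (map_conj_mem hg) (hbFT _ h g)
  -- the overgroups of `a`
  have ha' : ∀ (H : Subgroup (Matrix.symplecticGroup (Fin 3) F)), IsCoatom H →
      ∀ g, g * a * g⁻¹ ∈ H → r ∣ Nat.card (H.map (spToGL 3 F)) := by
    intro H _ g hg
    rw [card_map, ← ha]
    exact dvd_card_of_conj hg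
  have haLow : ∀ (H : Subgroup (Matrix.symplecticGroup (Fin 3) F)), IsCoatom H →
      ∀ g, g * a * g⁻¹ ∈ H → ¬ Low (H.map (spToGL 3 F)) := by
    rintro H hH g hg ⟨W, hW0, hW, hle⟩
    obtain ⟨x, hx, hxr, hx1⟩ := exists_elt hr.prime (ha' H hH g hg)
    have h1 := six_sub hr hf hF hxr hx1 (inv_of_mem (hle hx)) hW0
    rcases hW with h2 | ⟨-, h2⟩ <;> omega
  -- `z` and `c` are not in `Low`
  have hzLow : ∀ (K : Subgroup (Matrix.symplecticGroup (Fin 3) F)), Low (K.map (spToGL 3 F)) → Av z K := by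
    rintro K ⟨W, hW0, hW, hle⟩ g hg
    have h1 := inv_conj (inv_of_mem (hle (map_conj_mem hg)))
    have h2 := finrank_comap (spToGL 3 F g) W
    have hW1 : finrank F W ≠ 0 := by
      rw [Ne, Submodule.finrank_eq_zero]; exact hW0
    have h3 := hz _ h1 (by
      intro h
      rw [h, finrank_bot] at h2
      exact hW1 h2.symm) (by
      rw [h2]
      rcases hW with h | ⟨-, h⟩ <;> omega)
    rcases hW with h | ⟨h, -⟩
    · omega
    · have h4 := nd_comap (g := spToGL 3 F g) (H931.spToGL_mem g) h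
      obtain ⟨w, hw, hw0⟩ := (Submodule.ne_bot_iff _).1 (show W.comap (Matrix.toLin' ((spToGL 3 F g :
        GL (Fin 3 ⊕ Fin 3) F) : Matrix (Fin 3 ⊕ Fin 3) (Fin 3 ⊕ Fin 3) F)) ≠ ⊥ by
          intro h
          rw [h, finrank_bot] at h2
          exact hW1 h2.symm)
      obtain ⟨⟨x, hx, hx1⟩, -⟩ := h4 w hw hw0
      exact hx1 (h3.2 x hx w hw)
  have hcLow : ∀ (K : Subgroup (Matrix.symplecticGroup (Fin 3) F)), Low (K.map (spToGL 3 F)) → Av c K := by
    rintro K ⟨W, hW0, hW, hle⟩ g hg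
    have h1 := inv_conj (inv_of_mem (hle (map_conj_mem hg)))
    have h2 := finrank_comap (spToGL 3 F g) W
    have hW1 : finrank F W ≠ 0 := by
      rw [Ne, Submodule.finrank_eq_zero]; exact hW0
    have h3 := hc _ h1 (by
      intro h
      rw [h, finrank_bot] at h2
      exact hW1 h2.symm)
    rw [h2] at h3
    rcases hW with h | ⟨-, h⟩ <;> omega
  apply noTwo_of_two (a := a) (b := b)
  · intro H hH
    by_contra hcon
    push Not at hcon
    obtain ⟨h1, h2⟩ := hcon
    obtain ⟨g1, hg1⟩ := not_av h1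
    obtain ⟨g2, hg2⟩ := not_av h2
    exact haLow H hH g1 hg1 (hb H hH g2 hg2)
  · intro H K hH hK haH hbK
    have hlow := hb K hK 1 (by simpa using hbK)
    have hmax := isMaximalIn_map hH
    have hrH := ha' H hH 1 (by simpa using haH)
    rcases over_six hp h5 hf hF hr hmax (h06 _ hmax) hrH with h | h | h
    · refine ⟨z, fun g hg => ?_, hzLow K hlow⟩
      refine avoid_ft Nat.prime_three (x := spToGL 3 F z) (y := spToGL 3 F u) (n := k3) (by rw [← map_pow, hk3])
        (by rw [hord, huo]; exact hp3) (P := Polynomial.X - 1) ?_ h (spToGL 3 F g) (map_conj_mem hg)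
      rw [huk]
      norm_num
    · refine ⟨c, fun g hg => ?_, hcLow K hlow⟩
      refine avoid_ft Nat.prime_two (x := spToGL 3 F c) (y := spToGL 3 F c) (n := 1) (pow_one _)
        (by rw [hord, hco]; exact hl2) (P := P) ?_ h (spToGL 3 F g) (map_conj_mem hg)
      rw [hP]
      norm_num
    · rcases res_cases hp h5 hf hF hr hl hmax.1.le h hrH with h1 | h1
      · refine ⟨c, av_of_card ?_, hcLow K hlow⟩
        rw [hco, ← card_map H]
        exact h1
      · refine ⟨z, av_of_card ?_, hzLow K hlow⟩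
        intro h2
        apply h1
        rw [card_map, ← huo, ← hk3]
        exact (orderOf_pow_dvd k3).trans h2

/-- **`NoTwo (PSp_6(q))`, `q` odd and prime to 3.** -/
theorem noTwo_psp3 (h06 : ∀ H : Subgroup (GL (Fin 3 ⊕ Fin 3) F), IsMaximalIn (spGL 3 F) H →
    InSymplecticResidualClass H → L06 H) (hodd : Odd (Fintype.card F)) (h3 : ¬ 3 ∣ Fintype.card F) :
    NoTwo (PSp 3 F) := by
  obtain ⟨p, hc⟩ := CharP.exists F
  obtain ⟨k, hp, hk⟩ := FiniteField.card F p
  have hk0 : (k : ℕ) ≠ 0 := k.ne_zero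
  have h2 : p ≠ 2 := by
    rintro rfl
    rw [hk] at hodd
    exact absurd hodd (by simp [Nat.not_odd_iff_even, Nat.even_pow, hk0])
  have h3' : p ≠ 3 := by
    rintro rfl
    exact h3 (by rw [hk]; exact dvd_pow_self _ hk0)
  have h5 : 5 ≤ p := by
    have := hp.two_le
    by_contra hcon
    have : p = 4 := by omega
    rw [this] at hp
    norm_num at hp
  exact (noTwo_sp3 (f := (k : ℕ)) h06 hp h5 (by omega) (by rw [Nat.card_eq_fintype_card, hk])).of_surjective
    (QuotientGroup.mk' _) (QuotientGroup.mk'_surjective _)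

end Cfsg.Agent.H109.Cov
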