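import Cfsg.Agent.H251.GeoCardB
import Cfsg.Agent.Lib.Zsigmondy

/-!
# S2499, `PSp_6(q)`: primitive prime divisors and the geometric subgroups (helper109)

`PP p f k l` : `l` is a primitive prime divisor of `(p ^ f) ^ k - 1` with respect to `p` (the order of `p` modulo `l` is
`k * f`).
-/

set_option autoImplicit false

namespace Cfsg.Agent.H109.Cov

open Cfsg Cfsg.Geo Cfsg.Agent.H251.GeoCard

/-- the order of `p` modulo the prime `l` is `k * f` -/
structure PP (p f k l : ℕ) : Prop where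
  prime : l.Prime
  iff : ∀ m, l ∣ p ^ m - 1 ↔ k * f ∣ m
  sub : k * f ∣ l - 1
  ndvd : ¬ l ∣ p

theorem exists_pp {p f : ℕ} (hp : 3 ≤ p) (hf : 1 ≤ f) {k : ℕ} (hk : 3 ≤ k) : ∃ l, PP p f k l := by
  have h1 : 3 ≤ k * f := by nlinarith
  obtain ⟨l, h2, h3, h4, h5⟩ := Lib.Zsigmondy.exists_primitive (a := p) (n := k * f) (by omega) (by omega)
    (by omega) (by omega)
  exact ⟨l, h2, h3, h4, h5⟩

namespace PP

variable {p f k l : ℕ} (h : PP p f k l)
include h

theorem lt (hf : 1 ≤ f) (hk : 1 ≤ k) : k < l := by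
  have h1 := Nat.le_of_dvd (by have := h.prime.two_le; omega) h.sub
  have h2 : k ≤ k * f := Nat.le_mul_of_pos_right k hf
  have := h.prime.two_le
  omega

theorem mul_lt (_hf : 1 ≤ f) (_hk : 1 ≤ k) : k * f < l := by
  have h1 := Nat.le_of_dvd (by have := h.prime.two_le; omega) h.sub
  have := h.prime.two_le
  omega

theorem pow_iff (hf : 1 ≤ f) (i : ℕ) : l ∣ (p ^ f) ^ i - 1 ↔ k ∣ i := by
  rw [← pow_mul, h.iff, mul_comm f i]
  exact ⟨fun h => Nat.dvd_of_mul_dvd_mul_right (by omega) h, fun h => Nat.mul_dvd_mul_right h f⟩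

theorem not_dvd_card : ¬ l ∣ p ^ f := fun h' => h.ndvd (h.prime.dvd_of_dvd_pow h')

theorem le_of_div (hf : 1 ≤ f) {n : ℕ} (hd : Div l (p ^ f) n) : k ≤ n := by
  obtain ⟨i, h1, h2, h3⟩ := hd
  rw [h.pow_iff hf] at h3
  exact (Nat.le_of_dvd (by omega) h3).trans h2

/-- two primitive primes with different exponents are different -/
theorem ne {k' l' : ℕ} (h' : PP p f k' l') (hf : 1 ≤ f) (hk : k ≠ k') : l ≠ l' := by
  rintro rfl
  apply hk
  have h1 : k * f ∣ k' * f := (h.iff _).1 ((h'.iff _).2 dvd_rfl)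
  have h2 : k' * f ∣ k * f := (h'.iff _).1 ((h.iff _).2 dvd_rfl)
  exact Nat.eq_of_mul_eq_mul_right (by omega) (Nat.dvd_antisymm h1 h2)

theorem ne_char (hp : p.Prime) : l ≠ p := by
  rintro rfl
  exact h.ndvd dvd_rfl

/-- subfields -/
theorem le_of_div_sub (hf : 1 ≤ f) {a r n : ℕ} (hr : 2 ≤ r) (hf' : f = a * r) (hd : Div l (p ^ a) n) : k * r ≤ n := by
  obtain ⟨i, h1, h2, h3⟩ := hd
  have ha : 0 < a := by
    rcases Nat.eq_zero_or_pos a with h | h
    · rw [h, zero_mul] at hf'; omega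
    · exact h
  rw [← pow_mul, h.iff, hf'] at h3
  have h4 : a * (k * r) ∣ a * i := by
    rwa [show k * (a * r) = a * (k * r) by ring] at h3
  exact (Nat.le_of_dvd (by omega) (Nat.dvd_of_mul_dvd_mul_left ha h4)).trans h2

/-- the divisors of `|GL_n(q)|` -/
theorem not_dvd_gl (hf : 1 ≤ f) {K : Type*} [Field K] [Finite K] (hK : Nat.card K = p ^ f) {n : ℕ} (hn : n < k) :
    ¬ l ∣ Nat.card (GL (Fin n) K) := by
  intro hd
  have h1 := div_of_dvd_card_fin h.prime (by rw [hK]; exact h.not_dvd_card) hd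
  rw [hK] at h1
  have := h.le_of_div hf h1
  omega

end PP

section Kill

variable {ι : Type} [Fintype ι] [DecidableEq ι] {F : Type*} [Field F] [Fintype F] {p f k l : ℕ}

/-- (C2) -/
theorem kill_decomp (h : PP p f k l) (hf : 1 ≤ f) (hF : Nat.card F = p ^ f) {t m : ℕ}
    {D : Fin t → Submodule F (ι → F)} (hD : IsMDecomposition m D) (ht : t < l) (hm : m < k) :
    ¬ l ∣ Nat.card (decompositionStabilizer D) := by
  intro hd
  rcases decomp hD h.prime (by rw [hF]; exact h.not_dvd_card) hd with h1 | h1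
  · omega
  · rw [hF] at h1
    have := h.le_of_div hf h1
    omega

/-- (C4) -/
theorem kill_tensor (h : PP p f k l) (hf : 1 ≤ f) (hF : Nat.card F = p ^ f) {n₁ n₂ : ℕ} (e : ι ≃ Fin n₁ × Fin n₂)
    (P : GL ι F) (h1 : n₁ < k) (h2 : n₂ < k) : ¬ l ∣ Nat.card (tensorProductSubgroup n₁ n₂ e P) := by
  intro hd
  have h3 := tensor e P h.prime (by rw [hF]; exact h.not_dvd_card) hd
  rw [hF] at h3
  have := h.le_of_div hf h3
  omega

/-- (C5) -/
theorem kill_subfield (hp : p.Prime) (h : PP p f k l) (hf : 1 ≤ f) (hF : Nat.card F = p ^ f) {F₀ : Subfield F} {r : ℕ}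
    (hr : 2 ≤ r) (hc : Fintype.card F = Nat.card F₀ ^ r) (P : GL ι F) (hk : 2 ≤ k) (hn : Fintype.card ι < k * r) :
    ¬ l ∣ Nat.card (subfieldSubgroup F₀ P) := by
  intro hd
  rcases subfield h.prime (by rw [hF]; exact h.not_dvd_card) hd with h1 | h1
  · have h2 : Div l (p ^ f) 1 := div_one le_rfl (by rwa [← hF])
    have := h.le_of_div hf h2
    omega
  · rw [← Nat.card_eq_fintype_card, hF] at hc
    obtain ⟨a, -, ha⟩ := (Nat.dvd_prime_pow hp).1 (show Nat.card F₀ ∣ p ^ f by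
      rw [hc]; exact dvd_pow_self _ (by omega))
    rw [ha, ← pow_mul] at hc
    have har : f = a * r := Nat.pow_right_injective hp.two_le hc
    rw [ha] at h1
    have := h.le_of_div_sub hf hr har h1
    omega

/-- (C3) -/
theorem kill_extension [Nonempty ι] (h : PP p f k l) (hf : 1 ≤ f) (hF : Nat.card F = p ^ f) {r : ℕ} (hr : r.Prime)
    {K : Subalgebra F (Matrix ι ι F)} (hK : IsFieldSubalgebra r K) (hlr : l ≠ r)
    (hdiv : ∀ i, 1 ≤ i → i ≤ Fintype.card ι / r → ¬ k ∣ r * i) :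
    ¬ l ∣ Nat.card (subalgebraNormalizer K) := by
  intro hd
  rcases extension hr hK h.prime (by rw [hF]; exact h.not_dvd_card) hd with h1 | h1
  · exact hlr h1
  · obtain ⟨i, h2, h3, h4⟩ := h1
    rw [hF, ← pow_mul, h.pow_iff hf] at h4
    exact hdiv i h2 h3 h4

end Kill

end Cfsg.Agent.H109.Cov
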