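import Cfsg.Agent.H109.Cov.Lin
import Cfsg.Agent.H914.SixBase
import Cfsg.Agent.H753.NoPsl52
import Cfsg.Agent.S2119
import Cfsg.Agent.S0813
import Cfsg.Agent.S0815
import Cfsg.Agent.S0280
import Cfsg.Agent.S1619
import Cfsg.Agent.J2.OrderAssembly
import Cfsg.Agent.KFacts.J2.Aut
import Cfsg.Agent.KFacts.J2.Facts
import Cfsg.Agent.ClassicalGeometry.PSL2Basic

/-!
# S2499, `PSp_6(q)`: the residual subgroups (helper109)

* `card_dvd` : the order of a residual subgroup `H` of `Sp_2m(q)` divides `2 |Aut T|`;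
* `L06`      : the conclusion of S5806;
* `res_cases`, `res_false` : consequences for the divisors of the order.
-/

set_option autoImplicit false

namespace Cfsg.Agent.H109.Cov

open Cfsg Cfsg.Geo Module
open Cfsg.Agent.H753 (conjNormal_injective)
open scoped Matrix MatrixGroups

universe u

/-- **The order divides `2 |Aut T|`.** -/
theorem card_dvd {F : Type u} [Field F] [Finite F] {m : ℕ} (hm : 1 ≤ m) {H P : Subgroup (GL (Fin m ⊕ Fin m) F)}
    (hle : H ≤ spGL m F) (hc : IsResidualCore H P) :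
    Nat.card H ∣ 2 * Nat.card (MulAut (P ⧸ (scalars (Fin m ⊕ Fin m) F).subgroupOf P)) := by
  classical
  set Z : Subgroup H := (scalars (Fin m ⊕ Fin m) F).subgroupOf H with hZ
  have hZn : Z.Normal := inferInstance
  have hPn : (P.subgroupOf H).Normal := ⟨fun x hx g => hc.normal g g.2 x hx⟩
  set T : Subgroup (H ⧸ Z) := (P.subgroupOf H).map (QuotientGroup.mk' Z) with hT
  have hTn : T.Normal := hPn.map _ (QuotientGroup.mk'_surjective Z)
  have hZ2 : Nat.card Z ∣ 2 := by
    have h1 : Nat.card (Z.map H.subtype) ∣ Nat.card (Subgroup.zpowers (-1 : GL (Fin m ⊕ Fin m) F)) := by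
      apply Subgroup.card_dvd_of_le
      rintro _ ⟨z, hz, rfl⟩
      rcases H914.S6.scalar_cases hm (hle z.2) hz with h | h
      · change (z : GL (Fin m ⊕ Fin m) F) ∈ _
        rw [h]; exact one_mem _
      · change (z : GL (Fin m ⊕ Fin m) F) ∈ _
        rw [h]; exact Subgroup.mem_zpowers _
    rw [Nat.card_zpowers, Nat.card_congr (Z.equivMapOfInjective H.subtype H.subtype_injective).symm.toEquiv] at h1
    exact h1.trans (orderOf_dvd_of_pow_eq_one (by rw [neg_one_sq]))
  have hcent : Subgroup.centralizer (T : Set (H ⧸ Z)) = ⊥ := by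
    rw [eq_bot_iff]
    intro g hg
    obtain ⟨h, rfl⟩ := QuotientGroup.mk_surjective g
    rw [Subgroup.mem_bot]
    apply (QuotientGroup.eq_one_iff _).2
    refine hc.centralizer_scalar h h.2 ?_
    intro x hx
    obtain ⟨x', hx'⟩ : ∃ x' : H, (x' : GL (Fin m ⊕ Fin m) F) = x := ⟨⟨x, hc.le hx⟩, rfl⟩
    have h1 := Subgroup.mem_centralizer_iff.1 hg (QuotientGroup.mk' Z x')
      ⟨x', by rw [SetLike.mem_coe, Subgroup.mem_subgroupOf, hx']; exact hx, rfl⟩
    have h2 : QuotientGroup.mk' Z (h * x' * h⁻¹ * x'⁻¹) = 1 := by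
      rw [map_mul, map_mul, map_mul, map_inv, map_inv]
      change (h : H ⧸ Z) * _ * (h : H ⧸ Z)⁻¹ * _ = 1
      rw [← h1]
      group
    rw [QuotientGroup.mk'_apply, QuotientGroup.eq_one_iff, hZ, Subgroup.mem_subgroupOf] at h2
    rw [← hx']
    simpa only [Subgroup.coe_mul, Subgroup.coe_inv] using h2
  obtain ⟨f, hfx⟩ : ∃ f : P →* T, ∀ x : P, (f x : H ⧸ Z) = QuotientGroup.mk' Z ⟨x, hc.le x.2⟩ :=
    ⟨{ toFun := fun x => ⟨QuotientGroup.mk' Z ⟨x, hc.le x.2⟩, ⟨⟨x, hc.le x.2⟩, x.2, rfl⟩⟩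
       map_one' := Subtype.ext rfl
       map_mul' := fun x y => Subtype.ext rfl }, fun x => rfl⟩
  have hf : Function.Surjective f := by
    rintro ⟨_, ⟨x, hx, rfl⟩⟩
    exact ⟨⟨x, hx⟩, Subtype.ext (hfx _)⟩
  have hker : f.ker = (scalars (Fin m ⊕ Fin m) F).subgroupOf P := by
    ext x
    rw [MonoidHom.mem_ker, Subgroup.mem_subgroupOf, ← Subtype.coe_inj, hfx, QuotientGroup.mk'_apply,
      Subgroup.coe_one, QuotientGroup.eq_one_iff, hZ, Subgroup.mem_subgroupOf]
  have e : T ≃* P ⧸ (scalars (Fin m ⊕ Fin m) F).subgroupOf P :=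
    (QuotientGroup.quotientKerEquivOfSurjective f hf).symm.trans (QuotientGroup.quotientMulEquivOfEq hker)
  have hfin : Finite (GL (Fin m ⊕ Fin m) F) := inferInstance
  have h1 : Nat.card (H ⧸ Z) ∣ Nat.card (MulAut T) :=
    Subgroup.card_dvd_of_injective _ (conjNormal_injective T hcent)
  rw [Nat.card_congr (MulAut.congr e).toEquiv] at h1
  rw [← Subgroup.card_mul_index Z]
  exact Nat.mul_dvd_mul hZ2 h1

/-! ### orders of the automorphism groups -/

theorem aut_a5 : Nat.card (MulAut (alternatingGroup (Fin 5))) = 120 := by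
  rw [← Nat.card_congr (Equiv.ofBijective _ (S2119.result 5 (by norm_num) (by norm_num))), Nat.card_perm, Nat.card_fin]
  rfl

theorem aut_psl {F : Type u} [Field F] [Fintype F] {p f : ℕ} (hp : p.Prime) (hf : 1 ≤ f) (hF : Nat.card F = p ^ f)
    (h4 : 4 ≤ p ^ f) :
    Nat.card (MulAut (Matrix.ProjectiveSpecialLinearGroup (Fin 2) F)) = f * (p ^ f * ((p ^ f) ^ 2 - 1)) := by
  have := Fact.mk hp
  rw [Nat.card_eq_fintype_card] at hF
  rw [S0813.result p f hf hF 2 le_rfl (fun _ => h4), if_pos rfl, one_mul, ClassicalGeometry.PSL2Basic.card_PGL2, hF]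

theorem aut_l7 : Nat.card (MulAut (Matrix.ProjectiveSpecialLinearGroup (Fin 2) (ZMod 7))) = 336 := by
  have : Fact (Nat.Prime 7) := ⟨by norm_num⟩
  rw [aut_psl (p := 7) (f := 1) (by norm_num) le_rfl (by rw [Nat.card_zmod, pow_one]) (by norm_num)]
  norm_num

theorem aut_l13 : Nat.card (MulAut (Matrix.ProjectiveSpecialLinearGroup (Fin 2) (ZMod 13))) = 2184 := by
  have : Fact (Nat.Prime 13) := ⟨by norm_num⟩
  rw [aut_psl (p := 13) (f := 1) (by norm_num) le_rfl (by rw [Nat.card_zmod, pow_one]) (by norm_num)]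
  norm_num

theorem aut_u3 {K : Type} [Field K] [Fintype K] (hK : Fintype.card K = 9) : Nat.card (MulAut (PSU 3 K 3)) = 12096 := by
  have : Fact (Nat.Prime 3) := ⟨by norm_num⟩
  rw [S0815.result 3 1 le_rfl (q := 3) (by norm_num) (by rw [hK]; norm_num) 3 le_rfl (by norm_num)]
  have h1 := S0280.result (F := K) (q := 3) (by rw [hK]; norm_num) 3 (by norm_num)
  simp only [Finset.prod_range_succ, Finset.prod_range_zero] at h1
  norm_num at h1
  norm_num
  omega

theorem card_j2 : Nat.card Spor.J2 = 604800 := J2.OrderAssembly.card_J2 S1619.result.1 S1619.result.2.1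

theorem aut_j2 {X : Type*} [Group X] (h : Spor.IsoJ2 X) : Nat.card (MulAut X) ∣ 1209600 := by
  classical
  obtain ⟨e⟩ := h
  have hc : Nat.card X = 604800 := by rw [Nat.card_congr e.toEquiv, card_j2]
  have hfin : Finite X := Nat.finite_of_card_ne_zero (by rw [hc]; norm_num)
  obtain ⟨t, u, Q, v, ρ, D⟩ := KFacts.J2.Facts.exists_dat_of (X := X) ⟨e⟩
  set I := (MulAut.conj : X →* MulAut X).range with hI
  have hinn : ∀ α : MulAut X, α ∈ I ↔ ∃ k, α = MulAut.conj k := by
    intro α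
    exact ⟨fun ⟨k, hk⟩ => ⟨k, hk.symm⟩, fun ⟨k, hk⟩ => ⟨k, hk.symm⟩⟩
  have h1 : I.index ∣ 2 := by
    by_cases h : ∃ β : MulAut X, β ∉ I
    · obtain ⟨β, hβ⟩ := h
      have h3 : I.index = 2 := by
        rw [Subgroup.index_eq_two_iff_exists_notMem_and]
        refine ⟨β, hβ, fun b => ?_⟩
        by_cases hb : b ∈ I
        · right; exact hb
        · left
          rw [hinn] at hb hβ ⊢
          push Not at hb hβ
          exact KFacts.J2.Aut.mul_inner D hb hβ
      rw [h3]
    · push Not at h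
      rw [Subgroup.index_eq_one.2 (eq_top_iff.2 fun x _ => h x)]
      exact one_dvd _
  have h2 : Nat.card I ∣ 604800 := by
    rw [← hc]
    exact Subgroup.card_range_dvd _
  rw [← Subgroup.card_mul_index I, show (1209600 : ℕ) = 604800 * 2 by norm_num]
  exact Nat.mul_dvd_mul h2 h1

end Cfsg.Agent.H109.Cov
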