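import Cfsg.Agent.H109.Cov.Res
import Cfsg.Prelude.Def_Spor_J2
import Cfsg.Prelude.Def_G2

/-!
# S2499, `PSp_6(q)`: the residual subgroups, divisors of their orders (helper109)

* `L06` : the conclusion of S5806;
* `res_cases` : if the primitive prime `r` (exponent 6) divides `|H|` then `|H|` is prime to `l` (exponent 3) or to `p`;
* `res_false` : the primitive prime `s` (exponent 4) and `p` do not both divide `|H|`.
-/

set_option autoImplicit false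

namespace Cfsg.Agent.H109.Cov

open Cfsg Cfsg.Geo Module
open scoped Matrix MatrixGroups

universe u

/-- the conclusion of S5806 -/
def L06 {F : Type u} [Field F] [Fintype F] (H : Subgroup (GL (Fin 3 ⊕ Fin 3) F)) : Prop :=
  ∃ (P : Subgroup (Matrix.GeneralLinearGroup (Fin 3 ⊕ Fin 3) F)) (p : ℕ), Cfsg.Geo.IsResidualCore H P ∧ p.Prime ∧ CharP F p ∧
    ((Nonempty ((P ⧸ (Cfsg.Geo.scalars (Fin 3 ⊕ Fin 3) F).subgroupOf P) ≃* alternatingGroup (Fin 5)) ∧ Fintype.card F = p ∧ (p % 40 = 3 ∨ p % 40 = 37 ∨ p % 40 = 13 ∨ p % 40 = 27 ∨ p % 8 = 1 ∨ p % 8 = 7)) ∨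
     (Nonempty ((P ⧸ (Cfsg.Geo.scalars (Fin 3 ⊕ Fin 3) F).subgroupOf P) ≃* Matrix.ProjectiveSpecialLinearGroup (Fin 2) (ZMod 7)) ∧ ((Fintype.card F = p ∧ p ≠ 7 ∧ (p % 16 = 1 ∨ p % 16 = 15 ∨ p % 16 = 7 ∨ p % 16 = 9)) ∨ (Fintype.card F = p ^ 2 ∧ p ≠ 3 ∧ (p % 16 = 3 ∨ p % 16 = 13 ∨ p % 16 = 5 ∨ p % 16 = 11)))) ∨
     (Nonempty ((P ⧸ (Cfsg.Geo.scalars (Fin 3 ⊕ Fin 3) F).subgroupOf P) ≃* Matrix.ProjectiveSpecialLinearGroup (Fin 2) (ZMod 13)) ∧ ((Fintype.card F = p ∧ (p % 13 = 1 ∨ p % 13 = 12 ∨ p % 13 = 3 ∨ p % 13 = 10 ∨ p % 13 = 4 ∨ p % 13 = 9)) ∨ (Fintype.card F = p ^ 2 ∧ p ≠ 2 ∧ (p % 13 = 2 ∨ p % 13 = 11 ∨ p % 13 = 5 ∨ p % 13 = 8 ∨ p % 13 = 6 ∨ p % 13 = 7)))) ∨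
     (Nonempty ((P ⧸ (Cfsg.Geo.scalars (Fin 3 ⊕ Fin 3) F).subgroupOf P) ≃* alternatingGroup (Fin 7)) ∧ Fintype.card F = 9) ∨
     ((∃ (K : Type) (_ : Field K) (_ : Fintype K), Fintype.card K = 9 ∧ Nonempty ((P ⧸ (Cfsg.Geo.scalars (Fin 3 ⊕ Fin 3) F).subgroupOf P) ≃* Cfsg.PSU 3 K 3)) ∧ (Fintype.card F = 2 ∨ (Fintype.card F = p ∧ (p % 60 = 7 ∨ p % 60 = 53 ∨ p % 60 = 17 ∨ p % 60 = 43 ∨ p % 12 = 1 ∨ p % 12 = 11)))) ∨
     (Cfsg.Spor.IsoJ2 (P ⧸ (Cfsg.Geo.scalars (Fin 3 ⊕ Fin 3) F).subgroupOf P) ∧ ((Fintype.card F = p ∧ (p % 5 = 0 ∨ p % 5 = 1 ∨ p % 5 = 4)) ∨ (Fintype.card F = p ^ 2 ∧ p ≠ 2 ∧ (p % 5 = 2 ∨ p % 5 = 3)))) ∨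
     (Nonempty ((P ⧸ (Cfsg.Geo.scalars (Fin 3 ⊕ Fin 3) F).subgroupOf P) ≃* Matrix.ProjectiveSpecialLinearGroup (Fin 2) F) ∧ 7 ≤ p) ∨
     (Nonempty ((P ⧸ (Cfsg.Geo.scalars (Fin 3 ⊕ Fin 3) F).subgroupOf P) ≃* Cfsg.Lie.G2 F) ∧ p = 2 ∧ Fintype.card F ≠ 2))

variable {F : Type u} [Field F] [Fintype F] {p f : ℕ}

theorem char_eq (hp : p.Prime) (hF : Nat.card F = p ^ f) {p' : ℕ} (hp' : p'.Prime) [CharP F p'] : p' = p := by
  have h1 : p' ∣ p ^ f := by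
    rw [← hF, Nat.card_eq_fintype_card]
    obtain ⟨n, -, hn⟩ := FiniteField.card F p'
    rw [hn]
    exact dvd_pow_self _ n.ne_zero
  exact (Nat.prime_dvd_prime_iff_eq hp' hp).1 (hp'.dvd_of_dvd_pow h1)

/-- the four possibilities for `|H|` -/
theorem order_cases (hp : p.Prime) (h5 : 5 ≤ p) (hf : 1 ≤ f) (hF : Nat.card F = p ^ f)
    {H : Subgroup (GL (Fin 3 ⊕ Fin 3) F)} (hle : H ≤ spGL 3 F) (h : L06 H) :
    Nat.card H ∣ 240 ∨ Nat.card H ∣ 672 ∨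
    (Nat.card H ∣ 4368 ∧ ((f = 1 ∧ (p % 13 = 1 ∨ p % 13 = 12 ∨ p % 13 = 3 ∨ p % 13 = 10 ∨ p % 13 = 4 ∨ p % 13 = 9)) ∨ f = 2)) ∨
    Nat.card H ∣ 24192 ∨
    (Nat.card H ∣ 2419200 ∧ ((f = 1 ∧ (p % 5 = 0 ∨ p % 5 = 1 ∨ p % 5 = 4)) ∨ f = 2)) ∨
    Nat.card H ∣ 2 * (f * (p ^ f * ((p ^ f) ^ 2 - 1))) := by
  obtain ⟨P, p', hc, hp', hch, h⟩ := h
  have hpp : p' = p := char_eq hp hF hp'
  subst hpp
  have hd := card_dvd (m := 3) (by norm_num) hle hc
  have hF' : Fintype.card F = p' ^ f := by rw [← Nat.card_eq_fintype_card]; exact hF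
  have hf1 : Fintype.card F = p' → f = 1 := by
    intro h1
    rw [hF'] at h1
    exact Nat.pow_right_injective hp.two_le (by simpa using h1)
  have hf2 : Fintype.card F = p' ^ 2 → f = 2 := by
    intro h1
    rw [hF'] at h1
    exact Nat.pow_right_injective hp.two_le h1
  rcases h with ⟨⟨e⟩, -⟩ | ⟨⟨e⟩, -⟩ | ⟨⟨e⟩, h⟩ | ⟨-, h⟩ | ⟨⟨K, i1, i2, hK, ⟨e⟩⟩, -⟩ | ⟨e, h⟩ | ⟨⟨e⟩, -⟩ | ⟨-, h, -⟩
  · left
    rw [Nat.card_congr (MulAut.congr e).toEquiv, aut_a5] at hd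
    exact hd
  · right; left
    rw [Nat.card_congr (MulAut.congr e).toEquiv, aut_l7] at hd
    exact hd
  · right; right; left
    rw [Nat.card_congr (MulAut.congr e).toEquiv, aut_l13] at hd
    refine ⟨hd, ?_⟩
    rcases h with ⟨h1, h2⟩ | ⟨h1, -⟩
    · exact Or.inl ⟨hf1 h1, h2⟩
    · exact Or.inr (hf2 h1)
  · exfalso
    rw [hF'] at h
    have h1 : p' ∣ 9 := by rw [← h]; exact dvd_pow_self _ (by omega)
    have h2 : p' ∣ 3 := hp.dvd_of_dvd_pow (n := 2) (by norm_num; exact h1)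
    have := Nat.le_of_dvd (by norm_num) h2
    omega
  · right; right; right; left
    rw [Nat.card_congr (MulAut.congr e).toEquiv, aut_u3 hK] at hd
    exact hd
  · right; right; right; right; left
    refine ⟨hd.trans (by have := Nat.mul_dvd_mul (dvd_refl 2) (aut_j2 e); exact this), ?_⟩
    rcases h with ⟨h1, h2⟩ | ⟨h1, -⟩
    · exact Or.inl ⟨hf1 h1, h2⟩
    · exact Or.inr (hf2 h1)
  · right; right; right; right; right
    have h4 : 4 ≤ p' ^ f := by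
      calc 4 ≤ p' := by omega
        _ = p' ^ 1 := (pow_one _).symm
        _ ≤ p' ^ f := Nat.pow_le_pow_right (by omega) hf
    rw [Nat.card_congr (MulAut.congr e).toEquiv, aut_psl hp hf hF h4] at hd
    exact hd
  · omega

/-- primes at least 5 dividing the exceptional orders -/
theorem pr_240 {s : ℕ} (hs : s.Prime) (h5 : 5 ≤ s) (h : s ∣ 240) : s = 5 := by
  have h1 : s ∣ 2 ^ 4 * 3 * 5 := by norm_num; exact h
  rcases hs.dvd_mul.1 h1 with h2 | h2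
  · rcases hs.dvd_mul.1 h2 with h3 | h3
    · have := Nat.le_of_dvd (by norm_num) (hs.dvd_of_dvd_pow h3); omega
    · have := Nat.le_of_dvd (by norm_num) h3; omega
  · exact (Nat.prime_dvd_prime_iff_eq hs (by norm_num)).1 h2

theorem pr_672 {s : ℕ} (hs : s.Prime) (h5 : 5 ≤ s) (h : s ∣ 672) : s = 7 := by
  have h1 : s ∣ 2 ^ 5 * 3 * 7 := by norm_num; exact h
  rcases hs.dvd_mul.1 h1 with h2 | h2
  · rcases hs.dvd_mul.1 h2 with h3 | h3
    · have := Nat.le_of_dvd (by norm_num) (hs.dvd_of_dvd_pow h3); omega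
    · have := Nat.le_of_dvd (by norm_num) h3; omega
  · exact (Nat.prime_dvd_prime_iff_eq hs (by norm_num)).1 h2

theorem pr_4368 {s : ℕ} (hs : s.Prime) (h5 : 5 ≤ s) (h : s ∣ 4368) : s = 7 ∨ s = 13 := by
  have h1 : s ∣ 2 ^ 4 * 3 * 7 * 13 := by norm_num; exact h
  rcases hs.dvd_mul.1 h1 with h2 | h2
  · rcases hs.dvd_mul.1 h2 with h3 | h3
    · rcases hs.dvd_mul.1 h3 with h4 | h4
      · have := Nat.le_of_dvd (by norm_num) (hs.dvd_of_dvd_pow h4); omega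
      · have := Nat.le_of_dvd (by norm_num) h4; omega
    · exact Or.inl ((Nat.prime_dvd_prime_iff_eq hs (by norm_num)).1 h3)
  · exact Or.inr ((Nat.prime_dvd_prime_iff_eq hs (by norm_num)).1 h2)

theorem pr_24192 {s : ℕ} (hs : s.Prime) (h5 : 5 ≤ s) (h : s ∣ 24192) : s = 7 := by
  have h1 : s ∣ 2 ^ 7 * 3 ^ 3 * 7 := by norm_num; exact h
  rcases hs.dvd_mul.1 h1 with h2 | h2
  · rcases hs.dvd_mul.1 h2 with h3 | h3
    · have := Nat.le_of_dvd (by norm_num) (hs.dvd_of_dvd_pow h3); omega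
    · have := Nat.le_of_dvd (by norm_num) (hs.dvd_of_dvd_pow h3); omega
  · exact (Nat.prime_dvd_prime_iff_eq hs (by norm_num)).1 h2

theorem pr_2419200 {s : ℕ} (hs : s.Prime) (h5 : 5 ≤ s) (h : s ∣ 2419200) : s = 5 ∨ s = 7 := by
  have h1 : s ∣ 2 ^ 9 * 3 ^ 3 * 5 ^ 2 * 7 := by norm_num; exact h
  rcases hs.dvd_mul.1 h1 with h2 | h2
  · rcases hs.dvd_mul.1 h2 with h3 | h3
    · rcases hs.dvd_mul.1 h3 with h4 | h4
      · have := Nat.le_of_dvd (by norm_num) (hs.dvd_of_dvd_pow h4); omega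
      · have := Nat.le_of_dvd (by norm_num) (hs.dvd_of_dvd_pow h4); omega
    · exact Or.inl ((Nat.prime_dvd_prime_iff_eq hs (by norm_num)).1 (hs.dvd_of_dvd_pow h3))
  · exact Or.inr ((Nat.prime_dvd_prime_iff_eq hs (by norm_num)).1 h2)

/-- a primitive prime with exponent at least 3 does not divide `2 |Aut PSL_2(q)|` -/
theorem PP.not_dvd_psl {k l : ℕ} (h : PP p f k l) (hf : 1 ≤ f) (hk : 3 ≤ k) :
    ¬ l ∣ 2 * (f * (p ^ f * ((p ^ f) ^ 2 - 1))) := by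
  intro hd
  have h1 := h.mul_lt hf (by omega)
  have h2 := h.lt hf (by omega)
  rcases h.prime.dvd_mul.1 hd with h3 | h3
  · have := Nat.le_of_dvd (by norm_num) h3; omega
  rcases h.prime.dvd_mul.1 h3 with h4 | h4
  · have := Nat.le_of_dvd (by omega) h4
    have : f ≤ k * f := Nat.le_mul_of_pos_left f (by omega)
    omega
  rcases h.prime.dvd_mul.1 h4 with h5 | h5
  · exact h.not_dvd_card h5
  · rw [h.pow_iff hf] at h5
    have := Nat.le_of_dvd (by norm_num) h5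
    omega

/-- **`r` (exponent 6) divides `|H|`: the order is prime to `l` (exponent 3) or to `p`** -/
theorem res_cases (hp : p.Prime) (h5 : 5 ≤ p) (hf : 1 ≤ f) (hF : Nat.card F = p ^ f) {r l : ℕ} (hr : PP p f 6 r)
    (hl : PP p f 3 l) {H : Subgroup (GL (Fin 3 ⊕ Fin 3) F)} (hle : H ≤ spGL 3 F) (h : L06 H) (hd : r ∣ Nat.card H) :
    ¬ l ∣ Nat.card H ∨ ¬ p ∣ Nat.card H := by
  have hr6 := hr.lt hf (by norm_num)
  have hl3 := hl.lt hf (by norm_num)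
  have hl5 : 5 ≤ l := by
    by_contra hcon
    have h1 : l = 4 := by omega
    have := hl.prime
    rw [h1] at this
    norm_num at this
  have hrl : r ≠ l := hr.ne hl hf (by norm_num)
  have hrp := hr.ne_char hp
  have hlp := hl.ne_char hp
  by_contra hcon
  push Not at hcon
  obtain ⟨hdl, hdp⟩ := hcon
  rcases order_cases hp h5 hf hF hle h with h1 | h1 | ⟨h1, -⟩ | h1 | ⟨h1, -⟩ | h1
  · have := pr_240 hr.prime (by omega) (hd.trans h1)
    omega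
  · have h2 := pr_672 hr.prime (by omega) (hd.trans h1)
    have h3 := pr_672 hl.prime (by omega) (hdl.trans h1)
    omega
  · have h2 := pr_4368 hr.prime (by omega) (hd.trans h1)
    have h3 := pr_4368 hl.prime (by omega) (hdl.trans h1)
    have h4 := pr_4368 hp (by omega) (hdp.trans h1)
    omega
  · have h2 := pr_24192 hr.prime (by omega) (hd.trans h1)
    have h3 := pr_24192 hl.prime (by omega) (hdl.trans h1)
    omega
  · have h2 := pr_2419200 hr.prime (by omega) (hd.trans h1)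
    have h3 := pr_2419200 hl.prime (by omega) (hdl.trans h1)
    have h4 : l = 5 := by omega
    have h5 := hl.sub
    rw [h4] at h5
    have h6 : 3 ∣ 5 - 1 := (Dvd.intro _ rfl).trans h5
    omega
  · exact hr.not_dvd_psl hf (by norm_num) (hd.trans h1)

/-- **`s` (exponent 4) and `p` do not both divide `|H|`** -/
theorem res_false (hp : p.Prime) (h5 : 5 ≤ p) (hf : 1 ≤ f) (hF : Nat.card F = p ^ f) {s : ℕ} (hs : PP p f 4 s)
    {H : Subgroup (GL (Fin 3 ⊕ Fin 3) F)} (hle : H ≤ spGL 3 F) (h : L06 H) (hd : s ∣ Nat.card H)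
    (hdp : p ∣ Nat.card H) : False := by
  have hs4 := hs.lt hf (by norm_num)
  have hsp := hs.ne_char hp
  have hsub := hs.sub
  rcases order_cases hp h5 hf hF hle h with h1 | h1 | ⟨h1, h2⟩ | h1 | ⟨h1, h2⟩ | h1
  · have h3 := pr_240 hs.prime (by omega) (hd.trans h1)
    have h4 := pr_240 hp (by omega) (hdp.trans h1)
    omega
  · have h3 := pr_672 hs.prime (by omega) (hd.trans h1)
    have h4 := pr_672 hp (by omega) (hdp.trans h1)
    omega
  · have h3 := pr_4368 hs.prime (by omega) (hd.trans h1)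
    have h4 := pr_4368 hp (by omega) (hdp.trans h1)
    have h6 : 4 ∣ s - 1 := (Dvd.intro _ rfl).trans hsub
    have h7 : s = 13 := by omega
    have h8 : p = 7 := by omega
    subst h7 h8
    rcases h2 with ⟨-, h2⟩ | h2
    · omega
    · subst h2
      norm_num at hsub
  · have h3 := pr_24192 hs.prime (by omega) (hd.trans h1)
    have h4 := pr_24192 hp (by omega) (hdp.trans h1)
    omega
  · have h3 := pr_2419200 hs.prime (by omega) (hd.trans h1)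
    have h4 := pr_2419200 hp (by omega) (hdp.trans h1)
    have h6 : 4 ∣ s - 1 := (Dvd.intro _ rfl).trans hsub
    have h7 : s = 5 := by omega
    have h8 : p = 7 := by omega
    subst h7 h8
    rcases h2 with ⟨-, h2⟩ | h2
    · omega
    · subst h2
      norm_num at hsub
  · exact hs.not_dvd_psl hf (by norm_num) (hd.trans h1)

end Cfsg.Agent.H109.Cov
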