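import Cfsg.Agent.H109.Cov.ResNum
import Cfsg.Agent.S5805

/-!
# S2499, `PSp_6(q)`: the maximal subgroups containing elements of primitive prime order (helper109)

* `FT r H`  : `H` normalises a field of matrices of degree `r`;
* `Low H`   : `H` stabilises a line or a non-degenerate 2-space;
* `over_six`  : `H` maximal, the primitive prime of exponent 6 divides `|H|`: `FT 3`, `FT 2` or residual;
* `over_four` : `H` maximal, the primitive prime of exponent 4 and `p` divide `|H|`: `Low` or `FT 2`.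
-/

set_option autoImplicit false

namespace Cfsg.Agent.H109.Cov

open Cfsg Cfsg.Geo Module
open scoped Matrix MatrixGroups

universe u

/-- `H` normalises a field of matrices of degree `r` -/
def FT {F : Type u} [Field F] (r : ℕ) (H : Subgroup (GL (Fin 3 ⊕ Fin 3) F)) : Prop :=
  ∃ K : Subalgebra F (Matrix (Fin 3 ⊕ Fin 3) (Fin 3 ⊕ Fin 3) F), IsFieldSubalgebra r K ∧ H ≤ subalgebraNormalizer K

/-- `H` stabilises a line or a non-degenerate space of dimension at most 2 -/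
def Low {F : Type u} [Field F] (H : Subgroup (GL (Fin 3 ⊕ Fin 3) F)) : Prop :=
  ∃ W : Submodule F (Fin 3 ⊕ Fin 3 → F), W ≠ ⊥ ∧
    (finrank F W = 1 ∨ (IsNondegenerateOn (sympForm 3 F) W ∧ finrank F W ≤ 2)) ∧ H ≤ subspaceStabilizer W

variable {F : Type u} [Field F] [Fintype F] {p f : ℕ}

theorem exists_elt {ι : Type} [Fintype ι] [DecidableEq ι] {H : Subgroup (GL ι F)} {l : ℕ} (hl : l.Prime)
    (h : l ∣ Nat.card H) : ∃ x ∈ H, x ^ l = 1 ∧ x ≠ 1 := by
  have hfin : Finite (GL ι F) := inferInstance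
  have := Fact.mk hl
  obtain ⟨g, hg⟩ := exists_prime_orderOf_dvd_card' l h
  refine ⟨g, g.2, ?_, ?_⟩
  · rw [← Subgroup.coe_pow, ← hg, pow_orderOf_eq_one]; rfl
  · intro h1
    have h2 : g = 1 := Subtype.ext h1
    rw [h2, orderOf_one] at hg
    exact hl.one_lt.ne hg

theorem dvd_left {G : Type*} [Group G] {X I : Subgroup G} {s : ℕ} (h : s ∣ Nat.card (X ⊓ I : Subgroup G)) :
    s ∣ Nat.card X := h.trans (Subgroup.card_dvd_of_le inf_le_left)

theorem cast_ne (hp : p.Prime) (hF : Nat.card F = p ^ f) {l : ℕ} (hl : l.Prime) (hlp : l ≠ p) : (l : F) ≠ 0 := by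
  intro h
  obtain ⟨c, hc⟩ := CharP.exists F
  obtain ⟨k, hcp, hk⟩ := FiniteField.card F c
  have h1 : c ∣ l := (CharP.cast_eq_zero_iff F c l).1 h
  have h2 : c = l := (Nat.prime_dvd_prime_iff_eq hcp hl).1 h1
  have h3 : c = p := char_eq hp hF hcp
  exact hlp (h2.symm.trans h3)

/-- elements of order `r` (exponent 6) are irreducible -/
theorem six_sub {r : ℕ} (hr : PP p f 6 r) (hf : 1 ≤ f) (hF : Nat.card F = p ^ f) {x : GL (Fin 3 ⊕ Fin 3) F}
    (hx : x ^ r = 1) (hx1 : x ≠ 1) {W : Submodule F (Fin 3 ⊕ Fin 3 → F)} (hW : Inv x W) (hW0 : W ≠ ⊥) :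
    6 ≤ finrank F W := by
  have h1 := hr.dvd_fx hf hF hx
  have h2 := finrank_fx_lt hx1
  have h3 : Fintype.card (Fin 3 ⊕ Fin 3) = 6 := rfl
  rw [h3] at h1 h2
  have h4 : finrank F (fx x) = 0 := by omega
  have h5 : finrank F (W ⊓ fx x : Submodule F _) = 0 := by
    have := Submodule.finrank_mono (inf_le_right : W ⊓ fx x ≤ fx x)
    omega
  have h6 := hr.dvd_dim hf hF hx hW
  rw [h5, Nat.sub_zero] at h6
  have h7 : finrank F W ≠ 0 := by
    rw [Ne, Submodule.finrank_eq_zero]; exact hW0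
  exact Nat.le_of_dvd (by omega) h6

/-- elements of order `s` (exponent 4): the fixed space has dimension 2 -/
theorem four_fx {s : ℕ} (hs : PP p f 4 s) (hf : 1 ≤ f) (hF : Nat.card F = p ^ f) {x : GL (Fin 3 ⊕ Fin 3) F}
    (hx : x ^ s = 1) (hx1 : x ≠ 1) : finrank F (fx x) = 2 := by
  have h1 := hs.dvd_fx hf hF hx
  have h2 := finrank_fx_lt hx1
  have h3 : Fintype.card (Fin 3 ⊕ Fin 3) = 6 := rfl
  rw [h3] at h1 h2
  omega

theorem prime_ne_of {l r : ℕ} (h : r < l) : l ≠ r := by omega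

theorem over_six (hp : p.Prime) (h5 : 5 ≤ p) (hf : 1 ≤ f) (hF : Nat.card F = p ^ f) {r : ℕ} (hr : PP p f 6 r)
    {H : Subgroup (GL (Fin 3 ⊕ Fin 3) F)} (hH : IsMaximalIn (spGL 3 F) H)
    (h06 : InSymplecticResidualClass H → L06 H) (hd : r ∣ Nat.card H) : FT 3 H ∨ FT 2 H ∨ L06 H := by
  have hr6 := hr.lt hf (by norm_num)
  have hodd : Odd (Fintype.card F) := by
    rw [← Nat.card_eq_fintype_card, hF]
    exact (hp.odd_of_ne_two (by omega)).pow
  obtain ⟨x, hxH, hxr, hx1⟩ := exists_elt hr.prime hd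
  rcases S5805.result H hH with ⟨W, hW0, hts, e⟩ | ⟨W, hW0, -, hW, e⟩ | ⟨-, D, hD, e⟩ | ⟨-, D, hD, -, e⟩ |
    ⟨K, hK, -, -, e⟩ | ⟨-, K, hK, -, -, e⟩ | ⟨-, -, e', P, f₁, f₂, -, -, -, e⟩ | ⟨F₀, r', P, ζ, hr', hc, -, -, e⟩ |
    ⟨h, -⟩ | h
  · exfalso
    rw [e] at hxH
    have h1 := six_sub hr hf hF hxr hx1 (inv_of_mem hxH.1) hW0
    have h2 := finrank_le_of_ts hts
    omega
  · exfalso
    rw [e] at hxH
    have h1 := six_sub hr hf hF hxr hx1 (inv_of_mem hxH.1) hW0
    omega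
  · exfalso
    rw [e] at hd
    exact kill_decomp hr hf hF hD.decomp (by omega) (by norm_num) (dvd_left hd)
  · exfalso
    rw [e] at hd
    exact kill_decomp hr hf hF hD (by omega) (by norm_num) (dvd_left hd)
  · left
    exact ⟨K, hK, by rw [e]; exact inf_le_left⟩
  · right; left
    exact ⟨K, hK, by rw [e]; exact inf_le_left⟩
  · exfalso
    rw [e] at hd
    exact kill_tensor hr hf hF e' P (by norm_num) (by norm_num) (dvd_left hd)
  · exfalso
    rw [e] at hd
    refine kill_subfield hp hr hf hF hr'.two_le hc P (by norm_num) ?_ (dvd_left hd)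
    have : Fintype.card (Fin 3 ⊕ Fin 3) = 6 := rfl
    have := hr'.two_le
    omega
  · exact absurd hodd h
  · right; right
    exact h06 h

theorem over_four (hp : p.Prime) (h5 : 5 ≤ p) (hf : 1 ≤ f) (hF : Nat.card F = p ^ f) {s : ℕ} (hs : PP p f 4 s)
    {H : Subgroup (GL (Fin 3 ⊕ Fin 3) F)} (hH : IsMaximalIn (spGL 3 F) H)
    (h06 : InSymplecticResidualClass H → L06 H) (hd : s ∣ Nat.card H) (hdp : p ∣ Nat.card H) : Low H ∨ FT 2 H := by
  have hs4 := hs.lt hf (by norm_num)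
  have hodd : Odd (Fintype.card F) := by
    rw [← Nat.card_eq_fintype_card, hF]
    exact (hp.odd_of_ne_two (by omega)).pow
  obtain ⟨x, hxH, hxs, hx1⟩ := exists_elt hs.prime hd
  have hxsp : x ∈ spGL 3 F := hH.1.le hxH
  rcases S5805.result H hH with ⟨W, hW0, hts, e⟩ | ⟨W, hW0, hnd, hW, e⟩ | ⟨-, D, hD, e⟩ | ⟨-, D, hD, -, e⟩ |
    ⟨K, hK, -, -, e⟩ | ⟨-, K, hK, -, -, e⟩ | ⟨-, -, e', P, f₁, f₂, -, -, -, e⟩ | ⟨F₀, r', P, ζ, hr', hc, -, -, e⟩ |
    ⟨h, -⟩ | h
  · left
    refine ⟨W, hW0, Or.inl ?_, by rw [e]; exact inf_le_left⟩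
    rw [e] at hxH
    have hinv := inv_of_mem hxH.1
    have h1 := four_fx hs hf hF hxs hx1
    have h2 := finrank_le_of_ts hts
    have h3 := hs.dvd_dim hf hF hxs hinv
    have h4 : finrank F (W ⊓ fx x : Submodule F _) ≤ finrank F W := Submodule.finrank_mono inf_le_left
    have h6 : W ⊓ fx x = W := Submodule.eq_of_le_of_finrank_eq inf_le_left (by omega)
    have h7 : W ≤ fx x := inf_eq_left.1 h6
    have h8 := Submodule.finrank_mono h7
    have h9 : finrank F W ≠ 0 := by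
      rw [Ne, Submodule.finrank_eq_zero]; exact hW0
    by_contra hcon
    have h10 : W = fx x := Submodule.eq_of_le_of_finrank_eq h7 (by omega)
    obtain ⟨w, hw, hw0⟩ := (Submodule.ne_bot_iff _).1 hW0
    obtain ⟨y, hy, hy1⟩ := fx_nd hxsp hxs (cast_ne hp hF hs.prime (hs.ne_char hp)) (h7 hw) hw0
    rw [← h10] at hy
    exact hy1 (hts y hy w hw)
  · left
    exact ⟨W, hW0, Or.inr ⟨hnd, by omega⟩, by rw [e]; exact inf_le_left⟩
  · exfalso
    rw [e] at hd
    exact kill_decomp hs hf hF hD.decomp (by omega) (by norm_num) (dvd_left hd)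
  · exfalso
    rw [e] at hd
    exact kill_decomp hs hf hF hD (by omega) (by norm_num) (dvd_left hd)
  · exfalso
    rw [e] at hd
    refine kill_extension hs hf hF (by norm_num) hK (by omega) ?_ (dvd_left hd)
    intro i h1 h2
    have h3 : Fintype.card (Fin 3 ⊕ Fin 3) / 3 = 2 := rfl
    rw [h3] at h2
    omega
  · right
    exact ⟨K, hK, by rw [e]; exact inf_le_left⟩
  · exfalso
    rw [e] at hd
    exact kill_tensor hs hf hF e' P (by norm_num) (by norm_num) (dvd_left hd)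
  · exfalso
    rw [e] at hd
    refine kill_subfield hp hs hf hF hr'.two_le hc P (by norm_num) ?_ (dvd_left hd)
    have : Fintype.card (Fin 3 ⊕ Fin 3) = 6 := rfl
    have := hr'.two_le
    omega
  · exact absurd hodd h
  · exfalso
    exact res_false hp h5 hf hF hs hH.1.le (h06 h) hd hdp

end Cfsg.Agent.H109.Cov
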